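import Cfsg.Agent.H69.OutTwD4
import Cfsg.Agent.FastGrp
import Cfsg.Agent.Prune
set_option linter.all false
prune_inst 0x7f00000000000000000000000000000000000000000000000000000000000000000000000000000000000000000000000000000000000000000000000000000000000000000000000000000000000000003fffffffffffffffffffffffffffbeffbdffffffff
open scoped Cfsg.Agent.FastGrp

/-!
# Extensions of `³D₄(q)` (helper135)

* `exists_st`: every automorphism of `³D₄(q)` is the product of an inner and a standard field automorphism;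
* `exists_twist`: a group with the normal subgroup `³D₄(q)` with trivial centralizer, different from it, contains an
  element of prime order which induces a standard field automorphism.
-/

set_option autoImplicit false
set_option linter.unusedSectionVars false
set_option maxHeartbeats 400000

namespace Cfsg.Agent.H135.TD.AutOne

open CoxeterSystem Cfsg.Agent.ChevalleyStructure.CoxeterGeom Cfsg.Agent.Tits.Roots Cfsg.Agent.Tits.Core
  Cfsg.Agent.Tits.Exchange Cfsg.Agent.Nodes.Reps Cfsg.Agent.Nodes.BNOf Cfsg.Agent.Nodes.StabComb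
  Cfsg.Agent.Nodes.Bruhat Cfsg.Agent.Nodes.OppDec Cfsg.Agent.Nodes.RGDTwGen Cfsg.Agent.Nodes.RGDChev
  Cfsg.Agent.Nodes.RGDFold Cfsg.Agent.Nodes.RGDFoldSL
open Cfsg.Agent.KFacts.RgdOpp Cfsg.Agent.KFacts.RgdAut Cfsg.Agent.KFacts.RgdDiag Cfsg.Agent.KFacts.RgdRigid
  Cfsg.Agent.KFacts.RgdField Cfsg.Agent.KFacts.RgdTau Cfsg.Agent.KFacts.RgdNodes
open Cfsg.Lie Cfsg.Agent.ChevalleyStructure Cfsg.Agent.ChevalleyStructure.Elts Cfsg.Agent.ChevStructure.FieldMap
open Cfsg.Agent.KFacts.TwDFour.Out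
open Cfsg.Agent.Nodes.RGDTwD4 Cfsg.Agent.Nodes.RGDTwNode.D4
open Cfsg.Agent.CpAut.RgdTwStd
open Cfsg.Agent.H69.OutCount Cfsg.Agent.H69.OutTwD4

universe u

variable {K : Type u} [Field K] [Fintype K] {q : ℕ}

theorem coe_st (τ : K ≃+* K) (g : ↥(twistedD4 K q)) : ((st q τ g : ↥(twistedD4 K q)) : GL chevD4.Idx K) = glEquiv chevD4 τ g :=
  rfl

theorem st_mul (τ τ' : K ≃+* K) : st q (τ * τ') = st q τ * st q τ' := by
  ext1 g
  apply Subtype.ext
  rw [MulAut.mul_apply, coe_st, coe_st, coe_st, glE_mul]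

theorem st_one : st q (1 : K ≃+* K) = 1 := by
  ext1 g
  apply Subtype.ext
  rw [coe_st, glE_one]
  rfl

/-- a standard field automorphism which is inner is trivial -/
theorem eq_one_of_inner (hq : IsPrimePow q) (hK : Fintype.card K = q ^ 3) (p : ℕ) [Fact p.Prime] [CharP K p]
    {τ : K ≃+* K} {g : ↥(twistedD4 K q)} (h : st q τ = MulAut.conj g) : τ = 1 := by
  obtain ⟨φ, hφ⟩ := D4Fixed.exists_frob hq hK
  let cs : CoxeterSystem CoxeterMatrix.G₂ CoxeterMatrix.G₂.Group := CoxeterMatrix.G₂.toCoxeterSystem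
  have hfin : Finite CoxeterMatrix.G₂.Group := finiteW cs
  have R := Cfsg.Agent.Nodes.RGDTwD4.rgd cs hK hφ p
  have hG1 : RGD.Sup (X φ q) {x | IsRoot cs isCartan x} = ⊤ := G1_eq_top cs hK hφ
  have h1 := dtau_st hφ hK τ cs p
  rw [h] at h1
  have h2 : g ∈ T K q := mem_T_of_diag R hG1 h1.diag
  exact DTau.unique hφ hK h1 (dtau_conj hφ hK cs p h2)

/-- every automorphism is the product of an inner and a standard field automorphism -/
theorem exists_st (hq : IsPrimePow q) (hK : Fintype.card K = q ^ 3) (p : ℕ) [Fact p.Prime] [CharP K p]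
    (α : MulAut ↥(twistedD4 K q)) : ∃ g τ, α = MulAut.conj g * st q τ := by
  let Φ : (K ≃+* K) → Cfsg.Out ↥(twistedD4 K q) := fun τ => QuotientGroup.mk' _ (st q τ)
  have hinj : Function.Injective Φ := by
    intro τ τ' h
    have h1 : (st q τ)⁻¹ * st q τ' ∈ Cfsg.Inn ↥(twistedD4 K q) := QuotientGroup.eq.1 h
    obtain ⟨g, hg⟩ := h1
    have h2 : st q (τ⁻¹ * τ') = MulAut.conj g := by
      have h3 : st q τ⁻¹ = (st q τ)⁻¹ := by
        rw [eq_inv_iff_mul_eq_one, ← st_mul, inv_mul_cancel, st_one]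
      rw [st_mul, h3, ← hg]
    have h3 := eq_one_of_inner hq hK p h2
    rw [inv_mul_eq_one] at h3
    exact h3
  have hfin : Finite (MulAut ↥(twistedD4 K q)) :=
    Finite.of_injective (fun f : MulAut ↥(twistedD4 K q) => (f : ↥(twistedD4 K q) → ↥(twistedD4 K q)))
      DFunLike.coe_injective
  have hfin' : Finite (Cfsg.Out ↥(twistedD4 K q)) := Finite.of_surjective _ (QuotientGroup.mk'_surjective _)
  have hbij : Function.Bijective Φ :=
    (Nat.bijective_iff_injective_and_card Φ).2 ⟨hinj, (card_out hq hK p).symm⟩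
  obtain ⟨τ, hτ⟩ := hbij.2 (QuotientGroup.mk' _ α)
  have h1 : (st q τ)⁻¹ * α ∈ Cfsg.Inn ↥(twistedD4 K q) := QuotientGroup.eq.1 hτ
  obtain ⟨g, hg⟩ := h1
  refine ⟨st q τ g, τ, ?_⟩
  have h2 : α = st q τ * MulAut.conj g := by
    rw [← inv_mul_eq_iff_eq_mul]
    exact hg.symm
  rw [h2]
  ext1 y
  rw [MulAut.mul_apply, MulAut.mul_apply, MulAut.conj_apply, MulAut.conj_apply, map_mul, map_mul, map_inv]

/-- extensions -/
theorem exists_twist (hq : IsPrimePow q) (hK : Fintype.card K = q ^ 3) (p : ℕ) [Fact p.Prime] [CharP K p]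
    {X : Type*} [Group X] [Finite X] (S : Subgroup X) [S.Normal] (e : ↥S ≃* ↥(twistedD4 K q))
    (hC : Subgroup.centralizer (S : Set X) = ⊥) (hS : S ≠ ⊤) :
    ∃ (ℓ : ℕ) (τ : K ≃+* K) (x : X), ℓ.Prime ∧ τ ≠ 1 ∧ τ ^ ℓ = 1 ∧ x ≠ 1 ∧ x ^ ℓ = 1 ∧
      ∀ g : ↥(twistedD4 K q), x * (e.symm g : X) * x⁻¹ = (e.symm (st q τ g) : X) := by
  have hnt : Nontrivial (X ⧸ S) := by
    rw [QuotientGroup.nontrivial_iff]
    exact hS
  obtain ⟨ℓ, hℓ, hd⟩ := Nat.exists_prime_and_dvd (n := Nat.card (X ⧸ S)) (by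
    rw [Ne, Nat.card_eq_one_iff_unique]
    rintro ⟨h, -⟩
    exact not_subsingleton _ h)
  have hfℓ : Fact ℓ.Prime := ⟨hℓ⟩
  obtain ⟨y', hy'⟩ := exists_prime_orderOf_dvd_card' (G := X ⧸ S) ℓ hd
  obtain ⟨y, rfl⟩ := QuotientGroup.mk'_surjective S y'
  have hcentr : ∀ z : X, (∀ s : ↥S, z * (s : X) * z⁻¹ = s) → z = 1 := by
    intro z hz
    have h1 : z ∈ Subgroup.centralizer (S : Set X) := by
      rw [Subgroup.mem_centralizer_iff]
      intro s hs
      have h2 := hz ⟨s, hs⟩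
      calc s * z = (z * s * z⁻¹) * z := by rw [h2]
        _ = z * s := by group
    rwa [hC, Subgroup.mem_bot] at h1
  let α : MulAut ↥(twistedD4 K q) := (e.symm.trans (MulAut.conjNormal y)).trans e
  have hα : ∀ s : ↥S, α (e s) = e (MulAut.conjNormal y s) := by
    intro s
    show e (MulAut.conjNormal y (e.symm (e s))) = _
    rw [e.symm_apply_apply]
  obtain ⟨g, τ, hg⟩ := exists_st hq hK p α
  obtain ⟨x, hx⟩ : ∃ x : X, x = ((e.symm g : ↥S) : X)⁻¹ * y := ⟨_, rfl⟩
  have hxe : ∀ s : ↥S, e (MulAut.conjNormal x s) = st q τ (e s) := by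
    intro s
    have h1 := hα s
    rw [hg, MulAut.mul_apply, MulAut.conj_apply] at h1
    have h2 : (MulAut.conjNormal x s : ↥S) = (e.symm g)⁻¹ * MulAut.conjNormal y s * e.symm g := by
      apply Subtype.ext
      show x * (s : X) * x⁻¹ = ((e.symm g : ↥S) : X)⁻¹ * (y * s * y⁻¹) * (e.symm g : ↥S)
      rw [hx]
      group
    rw [h2, map_mul, map_mul, map_inv, e.apply_symm_apply, ← h1]
    group
  have hxS : x ∉ S := by
    intro h
    have h1 : y ∈ S := by
      have : y = ((e.symm g : ↥S) : X) * x := by rw [hx]; group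
      rw [this]
      exact S.mul_mem (e.symm g).2 h
    have h2 : QuotientGroup.mk' S y = 1 := (QuotientGroup.eq_one_iff y).2 h1
    rw [h2, orderOf_one] at hy'
    exact hℓ.one_lt.ne hy'
  have hxℓ : x ^ ℓ ∈ S := by
    rw [← QuotientGroup.eq_one_iff]
    show QuotientGroup.mk' S (x ^ ℓ) = 1
    have h1 : QuotientGroup.mk' S x = QuotientGroup.mk' S y := by
      rw [hx, map_mul]
      have h2 : QuotientGroup.mk' S ((e.symm g : ↥S) : X)⁻¹ = 1 :=
        (QuotientGroup.eq_one_iff _).2 (S.inv_mem (e.symm g).2)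
      rw [h2, one_mul]
    rw [map_pow, h1, ← hy', pow_orderOf_eq_one]
  have hpow : ∀ (n : ℕ) (s : ↥S), e (MulAut.conjNormal (x ^ n) s) = st q (τ ^ n) (e s) := by
    intro n
    induction n with
    | zero => intro s; rw [pow_zero, pow_zero, map_one, st_one]; rfl
    | succ n ih => intro s; rw [pow_succ, pow_succ, map_mul, MulAut.mul_apply, ih, hxe, st_mul, MulAut.mul_apply]
  have hτℓ : τ ^ ℓ = 1 := by
    refine eq_one_of_inner hq hK p (g := e ⟨x ^ ℓ, hxℓ⟩) ?_
    ext1 z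
    obtain ⟨s, rfl⟩ := e.surjective z
    rw [← hpow, MulAut.conj_apply, ← map_mul, ← map_inv, ← map_mul]
    congr 1
  have hx1 : x ^ ℓ = 1 := by
    apply hcentr
    intro s
    have h1 := hpow ℓ s
    rw [hτℓ, st_one] at h1
    exact congrArg Subtype.val (e.injective h1)
  refine ⟨ℓ, τ, x, hℓ, ?_, hτℓ, ?_, hx1, ?_⟩
  · intro h
    apply hxS
    have h1 : x = 1 := by
      apply hcentr
      intro s
      have h1 := hxe s
      rw [h, st_one] at h1
      exact congrArg Subtype.val (e.injective h1)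
    rw [h1]
    exact S.one_mem
  · rintro h
    exact hxS (h ▸ S.one_mem)
  · intro z
    have h1 := hxe (e.symm z)
    rw [e.apply_symm_apply, ← e.eq_symm_apply] at h1
    exact congrArg Subtype.val h1

end Cfsg.Agent.H135.TD.AutOne
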