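import Mathlib
import Cfsg.Agent.FastGrp
import Cfsg.Agent.Prune
set_option linter.all false
prune_inst 0x7f00000000000000000000000000000000000000000000000000000000000000000000000000000000000000000000000000000000000000000000000000000000000000000000000000000000000000003fffffffffffffffffffffffffffbeffbdffffffff
open scoped Cfsg.Agent.FastGrp

set_option autoImplicit false

/-!
# A norm argument with two kernels (helper135)

`A`, `X` commuting abelian subgroups normalised by `c`; every power `c ^ i`, `0 < i < ℓ`, acts without fixed points on `A`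
or on `X`; all norms `∑_{i<ℓ} ρ ((a x c) ^ i)` vanish.  Then no vector is annihilated by both `∑_{a ∈ A} ρ a` and
`∑_{x ∈ X} ρ x`.
-/

namespace Cfsg.Agent.H135.TD

section mu

variable {L : Type*} [Group L]

def mu (c : L) (i : ℕ) (a : L) : L := (a * c) ^ i * (c ^ i)⁻¹

theorem mu_zero (c a : L) : mu c 0 a = 1 := by simp [mu]

theorem mu_succ (c : L) (i : ℕ) (a : L) : mu c (i + 1) a = a * (c * mu c i a * c⁻¹) := by
  unfold mu
  rw [pow_succ' (a * c), pow_succ c, mul_inv_rev]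
  group

theorem mu_succ' (c : L) (i : ℕ) (a : L) : mu c (i + 1) a = mu c i a * (c ^ i * a * (c ^ i)⁻¹) := by
  unfold mu
  rw [pow_succ (a * c), pow_succ c, mul_inv_rev]
  group

theorem pow_eq_mu (c : L) (i : ℕ) (a : L) : (a * c) ^ i = mu c i a * c ^ i := by
  unfold mu
  group

theorem mu_mem {c : L} {U : Subgroup L} (hc : ∀ u ∈ U, c * u * c⁻¹ ∈ U) (i : ℕ) {a : L} (ha : a ∈ U) :
    mu c i a ∈ U := by
  induction i with
  | zero => rw [mu_zero]; exact one_mem _
  | succ i ih => rw [mu_succ]; exact mul_mem ha (hc _ ih)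

theorem mu_mul {c : L} {U : Subgroup L} (hc : ∀ u ∈ U, c * u * c⁻¹ ∈ U) (hU : ∀ a ∈ U, ∀ b ∈ U, a * b = b * a)
    (i : ℕ) {a b : L} (ha : a ∈ U) (hb : b ∈ U) : mu c i (a * b) = mu c i a * mu c i b := by
  induction i with
  | zero => simp [mu_zero]
  | succ i ih =>
    rw [mu_succ, mu_succ, mu_succ, ih]
    have h1 := hc _ (mu_mem hc i ha)
    have h2 := hU _ hb _ h1
    calc a * b * (c * (mu c i a * mu c i b) * c⁻¹)
        = a * (b * (c * mu c i a * c⁻¹)) * (c * mu c i b * c⁻¹) := by group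
      _ = a * ((c * mu c i a * c⁻¹) * b) * (c * mu c i b * c⁻¹) := by rw [h2]
      _ = _ := by group

theorem mu_inj {c : L} {U : Subgroup L} (hc : ∀ u ∈ U, c * u * c⁻¹ ∈ U) (hU : ∀ a ∈ U, ∀ b ∈ U, a * b = b * a)
    {i : ℕ} (hfix : ∀ a ∈ U, c ^ i * a * (c ^ i)⁻¹ = a → a = 1) {a b : L} (ha : a ∈ U) (hb : b ∈ U)
    (h : mu c i a = mu c i b) : a = b := by
  have hd : a * b⁻¹ ∈ U := mul_mem ha (inv_mem hb)
  have h1 : mu c i (a * b⁻¹) * mu c i b = mu c i b := by
    rw [← mu_mul hc hU i hd hb, inv_mul_cancel_right, h]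
  have h2 : mu c i (a * b⁻¹) = 1 := mul_eq_right.1 h1
  have h3 : c ^ i * (a * b⁻¹) * (c ^ i)⁻¹ = a * b⁻¹ := by
    have h4 := mu_succ c i (a * b⁻¹)
    rw [mu_succ', h2, one_mul] at h4
    rw [h4]
    group
  exact mul_inv_eq_one.1 (hfix _ hd h3)

theorem sum_mu {c : L} {U : Subgroup L} [Fintype U] (hc : ∀ u ∈ U, c * u * c⁻¹ ∈ U)
    (hU : ∀ a ∈ U, ∀ b ∈ U, a * b = b * a) {i : ℕ} (hfix : ∀ a ∈ U, c ^ i * a * (c ^ i)⁻¹ = a → a = 1)
    {M : Type*} [AddCommMonoid M] (f : L → M) : ∑ a : U, f (mu c i a) = ∑ a : U, f a := by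
  let g : U → U := fun a => ⟨mu c i a, mu_mem hc i a.2⟩
  have hg : Function.Injective g := fun a b h => Subtype.ext (mu_inj hc hU hfix a.2 b.2 (congrArg Subtype.val h))
  have hb : Function.Bijective g := Finite.injective_iff_bijective.mp hg
  exact (Equiv.ofBijective g hb).sum_comp (fun a : U => f a)

end mu

section main

variable {k L V : Type*} [Field k] [Group L] [AddCommGroup V] [Module k V] (ρ : L →* (V →ₗ[k] V))

/-- vectors killed by the sum over a subgroup are mapped to such vectors by elements normalising it -/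
theorem sum_conj {c : L} {U : Subgroup L} [Fintype U] (hc : ∀ u ∈ U, c * u * c⁻¹ ∈ U) {v : V}
    (hv : ∑ a : U, ρ a v = 0) : ∑ a : U, ρ a (ρ c v) = 0 := by
  let g : U → U := fun a => ⟨c * a * c⁻¹, hc a a.2⟩
  have hg : Function.Injective g := fun a b h => Subtype.ext (by
    have h1 : c * (a : L) * c⁻¹ = c * b * c⁻¹ := congrArg Subtype.val h
    exact mul_left_cancel (mul_right_cancel h1))
  have hb : Function.Bijective g := Finite.injective_iff_bijective.mp hg
  have h1 := (Equiv.ofBijective g hb).sum_comp (fun a : U => ρ a (ρ c v))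
  rw [← h1]
  have h2 : ∀ a : U, ρ ((Equiv.ofBijective g hb a : U) : L) (ρ c v) = ρ c (ρ a v) := by
    intro a
    have e : ((Equiv.ofBijective g hb a : U) : L) = c * a * c⁻¹ := rfl
    rw [e]
    have e2 : ρ (c * (a : L) * c⁻¹) (ρ c v) = ρ (c * (a : L) * c⁻¹ * c) v := by rw [map_mul ρ (c * (a : L) * c⁻¹) c]; rfl
    rw [e2, inv_mul_cancel_right, map_mul]
    rfl
  rw [Finset.sum_congr rfl fun a _ => h2 a, ← map_sum, hv, map_zero]

theorem sum_conj_pow {c : L} {U : Subgroup L} [Fintype U] (hc : ∀ u ∈ U, c * u * c⁻¹ ∈ U) {v : V}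
    (hv : ∑ a : U, ρ a v = 0) (i : ℕ) : ∑ a : U, ρ a (ρ (c ^ i) v) = 0 := by
  induction i with
  | zero => simpa using hv
  | succ i ih =>
    rw [pow_succ', map_mul]
    exact sum_conj ρ hc ih

theorem two_kernel (A X : Subgroup L) [Fintype A] [Fintype X] (hA : ∀ a ∈ A, ∀ b ∈ A, a * b = b * a)
    (hX : ∀ a ∈ X, ∀ b ∈ X, a * b = b * a) (hAX : ∀ a ∈ A, ∀ x ∈ X, a * x = x * a) (c : L)
    (hcA : ∀ a ∈ A, c * a * c⁻¹ ∈ A) (hcX : ∀ a ∈ X, c * a * c⁻¹ ∈ X) (ℓ : ℕ) (hℓ : 0 < ℓ)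
    (hfree : ∀ i, 0 < i → i < ℓ → (∀ a ∈ A, c ^ i * a * (c ^ i)⁻¹ = a → a = 1) ∨
      (∀ x ∈ X, c ^ i * x * (c ^ i)⁻¹ = x → x = 1))
    (hnorm : ∀ a ∈ A, ∀ x ∈ X, ∀ v, ∑ i ∈ Finset.range ℓ, ρ ((a * x * c) ^ i) v = 0)
    (hA0 : (Fintype.card A : k) ≠ 0) (hX0 : (Fintype.card X : k) ≠ 0) (v : V)
    (hvA : ∑ a : A, ρ a v = 0) (hvX : ∑ x : X, ρ x v = 0) : v = 0 := by
  -- the product is abelian
  obtain ⟨U, hU⟩ : ∃ U : Subgroup L, U = A ⊔ X := ⟨_, rfl⟩
  have hUc : ∀ u ∈ U, c * u * c⁻¹ ∈ U := by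
    have : U ≤ U.comap (MulAut.conj c).toMonoidHom := by
      rw [hU]
      refine sup_le (fun a ha => ?_) fun x hx => ?_
      · exact (le_sup_left : A ≤ A ⊔ X) (hcA a ha)
      · exact (le_sup_right : X ≤ A ⊔ X) (hcX x hx)
    exact fun u hu => this hu
  have hUU : ∀ a ∈ U, ∀ b ∈ U, a * b = b * a := by
    have h1 : ∀ a ∈ U, ∀ b, (b ∈ A ∨ b ∈ X) → a * b = b * a := by
      intro a ha b hb
      have : U ≤ Subgroup.centralizer {b} := by
        rw [hU]
        refine sup_le (fun a ha => ?_) fun x hx => ?_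
        · rw [Subgroup.mem_centralizer_singleton_iff]
          rcases hb with hb | hb
          · exact hA _ ha _ hb
          · exact hAX _ ha _ hb
        · rw [Subgroup.mem_centralizer_singleton_iff]
          rcases hb with hb | hb
          · exact (hAX _ hb _ hx).symm
          · exact hX _ hx _ hb
      exact Subgroup.mem_centralizer_singleton_iff.1 (this ha)
    intro a ha b hb
    have : U ≤ Subgroup.centralizer {a} := by
      rw [hU]
      refine sup_le (fun b hb => ?_) fun x hx => ?_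
      · rw [Subgroup.mem_centralizer_singleton_iff]
        exact (h1 a ha b (Or.inl hb)).symm
      · rw [Subgroup.mem_centralizer_singleton_iff]
        exact (h1 a ha x (Or.inr hx)).symm
    exact (Subgroup.mem_centralizer_singleton_iff.1 (this hb)).symm
  have hAU : A ≤ U := by rw [hU]; exact le_sup_left
  have hXU : X ≤ U := by rw [hU]; exact le_sup_right
  -- the double sum
  have key : ∑ i ∈ Finset.range ℓ, ∑ a : A, ∑ x : X, ρ ((a * x * c) ^ i) v = 0 := by
    have h1 : ∑ a : A, ∑ x : X, ∑ i ∈ Finset.range ℓ, ρ ((a * x * c) ^ i) v = 0 :=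
      Finset.sum_eq_zero fun a _ => Finset.sum_eq_zero fun x _ => hnorm a a.2 x x.2 v
    rw [← h1, Finset.sum_comm]
    exact Finset.sum_congr rfl fun a _ => Finset.sum_comm
  have hz : ∀ i ∈ Finset.range ℓ, i ≠ 0 → ∑ a : A, ∑ x : X, ρ ((a * x * c) ^ i) v = 0 := by
    intro i hi hi0
    have hi' := Finset.mem_range.1 hi
    have h1 : ∀ (a : A) (x : X), ρ (((a : L) * x * c) ^ i) v = ρ (mu c i a) (ρ (mu c i x) (ρ (c ^ i) v)) := by
      intro a x
      rw [pow_eq_mu, mu_mul hUc hUU i (hAU a.2) (hXU x.2), map_mul, map_mul]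
      rfl
    have h2 : ∀ (a : A) (x : X), ρ (((a : L) * x * c) ^ i) v = ρ (mu c i x) (ρ (mu c i a) (ρ (c ^ i) v)) := by
      intro a x
      rw [pow_eq_mu, mu_mul hUc hUU i (hAU a.2) (hXU x.2),
        hUU _ (mu_mem hUc i (hAU a.2)) _ (mu_mem hUc i (hXU x.2)), map_mul, map_mul]
      rfl
    rcases hfree i (Nat.pos_of_ne_zero hi0) hi' with hf | hf
    · rw [Finset.sum_comm]
      refine Finset.sum_eq_zero fun x _ => ?_
      rw [Finset.sum_congr rfl fun a _ => h2 a x, ← map_sum,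
        sum_mu hcA hA hf (fun a => ρ a (ρ (c ^ i) v)), sum_conj_pow ρ hcA hvA, map_zero]
    · refine Finset.sum_eq_zero fun a _ => ?_
      rw [Finset.sum_congr rfl fun x _ => h1 a x, ← map_sum,
        sum_mu hcX hX hf (fun a => ρ a (ρ (c ^ i) v)), sum_conj_pow ρ hcX hvX, map_zero]
  rw [Finset.sum_eq_single_of_mem 0 (Finset.mem_range.2 hℓ) hz] at key
  simp only [pow_zero, map_one, Module.End.one_apply, Finset.sum_const, Finset.card_univ] at key
  rw [← Nat.cast_smul_eq_nsmul k, ← Nat.cast_smul_eq_nsmul k] at key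
  rcases smul_eq_zero.1 key with h | h
  · exact absurd h hA0
  · exact (smul_eq_zero.1 h).resolve_left hX0

omit [Field k] [Group L] [AddCommGroup V] [Module k V] in
/-- all elements `a x c` have the same order as `c`. -/
theorem orderOf_mul_c {L : Type*} [Group L] (A X : Subgroup L) (hA : ∀ a ∈ A, ∀ b ∈ A, a * b = b * a)
    (hX : ∀ a ∈ X, ∀ b ∈ X, a * b = b * a) (hAX : ∀ a ∈ A, ∀ x ∈ X, a * x = x * a) (c : L)
    (hcA : ∀ a ∈ A, c * a * c⁻¹ ∈ A) (hcX : ∀ a ∈ X, c * a * c⁻¹ ∈ X) (ℓ : ℕ) (hℓ : 0 < ℓ)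
    (hfree : ∀ i, 0 < i → i < ℓ → (∀ a ∈ A, c ^ i * a * (c ^ i)⁻¹ = a → a = 1) ∨
      (∀ x ∈ X, c ^ i * x * (c ^ i)⁻¹ = x → x = 1)) (hfA : ∀ a ∈ A, c * a * c⁻¹ = a → a = 1)
    (hfX : ∀ a ∈ X, c * a * c⁻¹ = a → a = 1) {a₀ x₀ : L} (ha₀ : a₀ ∈ A) (ha₁ : a₀ ≠ 1) (hx₀ : x₀ ∈ X) (hx₁ : x₀ ≠ 1)
    (hc1 : c ^ ℓ = 1) {a x : L} (ha : a ∈ A) (hx : x ∈ X) : orderOf (a * x * c) = ℓ := by
  -- the product
  have hpow : ∀ i : ℕ, (a * x * c) ^ i = mu c i a * mu c i x * c ^ i := by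
    intro i
    induction i with
    | zero => simp [mu_zero]
    | succ i ih =>
      have h1 := mu_mem hcA i ha
      have h2 := mu_mem hcX i hx
      have e1 := hcA _ h1
      have e3 : x * (c * mu c i a * c⁻¹) = (c * mu c i a * c⁻¹) * x := (hAX _ e1 _ hx).symm
      rw [pow_succ', ih, mu_succ, mu_succ, pow_succ']
      calc a * x * c * (mu c i a * mu c i x * c ^ i)
          = a * (x * (c * mu c i a * c⁻¹)) * (c * mu c i x * c⁻¹) * (c * c ^ i) := by group
        _ = a * ((c * mu c i a * c⁻¹) * x) * (c * mu c i x * c⁻¹) * (c * c ^ i) := by rw [e3]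
        _ = _ := by group
  have hmu : ∀ (U : Subgroup L), (∀ a ∈ U, ∀ b ∈ U, a * b = b * a) → (∀ a ∈ U, c * a * c⁻¹ ∈ U) →
      (∀ a ∈ U, c * a * c⁻¹ = a → a = 1) → ∀ u ∈ U, mu c ℓ u = 1 := by
    intro U hU hcU hfU u hu
    apply hfU _ (mu_mem hcU ℓ hu)
    have h1 := mu_succ c ℓ u
    rw [mu_succ', hc1, one_mul, inv_one, mul_one, hU _ (mu_mem hcU ℓ hu) _ hu] at h1
    exact (mul_left_cancel h1).symm
  rw [orderOf_eq_iff hℓ]
  refine ⟨?_, ?_⟩
  · rw [hpow, hmu A hA hcA hfA a ha, hmu X hX hcX hfX x hx, hc1, one_mul, one_mul]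
  · intro i hi hi0 h
    rw [hpow] at h
    have h1 := mu_mem hcA i ha
    have h2 := mu_mem hcX i hx
    have hci : c ^ i = (mu c i a * mu c i x)⁻¹ := (inv_eq_of_mul_eq_one_right h).symm
    have hcomm : ∀ y : L, (y ∈ A ∨ y ∈ X) → c ^ i * y * (c ^ i)⁻¹ = y := by
      intro y hy
      have hy1 : mu c i a * y = y * mu c i a := by
        rcases hy with hy | hy
        · exact hA _ h1 _ hy
        · exact hAX _ h1 _ hy
      have hy2 : mu c i x * y = y * mu c i x := by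
        rcases hy with hy | hy
        · exact (hAX _ hy _ h2).symm
        · exact hX _ h2 _ hy
      have e : (mu c i a * mu c i x) * y = y * (mu c i a * mu c i x) := by
        rw [mul_assoc, hy2, ← mul_assoc, hy1, mul_assoc]
      rw [hci, inv_inv, mul_assoc, ← e]
      group
    rcases hfree i hi0 hi with hf | hf
    · exact ha₁ (hf _ ha₀ (hcomm _ (Or.inl ha₀)))
    · exact hx₁ (hf _ hx₀ (hcomm _ (Or.inr hx₀)))

/-- if all norms vanish in this way, `X` acts trivially on the vectors killed by the sum over `A` -/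
theorem fix_of_two_kernel (A X : Subgroup L) [Fintype A] [Fintype X]
    (hAX : ∀ a ∈ A, ∀ x ∈ X, a * x = x * a) (hX0 : (Fintype.card X : k) ≠ 0)
    (h : ∀ v : V, ∑ a : A, ρ a v = 0 → ∑ x : X, ρ x v = 0 → v = 0) {v : V} (hv : ∑ a : A, ρ a v = 0) {x : L}
    (hx : x ∈ X) : ρ x v = v := by
  obtain ⟨w, hw⟩ : ∃ w : V, w = v - (Fintype.card X : k)⁻¹ • ∑ x : X, ρ x v := ⟨_, rfl⟩
  have h1 : ∀ y ∈ X, ρ y (∑ x : X, ρ x v) = ∑ x : X, ρ x v := by
    intro y hy
    rw [map_sum]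
    have h2 := Equiv.sum_comp (Equiv.mulLeft (⟨y, hy⟩ : X)) (fun x : X => ρ x v)
    rw [← h2]
    refine Finset.sum_congr rfl fun x _ => ?_
    rw [Equiv.coe_mulLeft, Subgroup.coe_mul, map_mul]
    rfl
  have hwA : ∑ a : A, ρ a w = 0 := by
    have h2 : ∑ a : A, ρ a (∑ x : X, ρ x v) = 0 := by
      simp only [map_sum]
      rw [Finset.sum_comm]
      refine Finset.sum_eq_zero fun x _ => ?_
      have h3 : ∀ a : A, ρ a (ρ x v) = ρ x (ρ a v) := by
        intro a
        have e1 : ρ a (ρ x v) = ρ ((a : L) * x) v := by rw [map_mul]; rfl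
        have e2 : ρ x (ρ a v) = ρ ((x : L) * a) v := by rw [map_mul]; rfl
        rw [e1, e2, hAX a a.2 x x.2]
      rw [Finset.sum_congr rfl fun a _ => h3 a, ← map_sum, hv, map_zero]
    simp only [hw, map_sub, map_smul, Finset.sum_sub_distrib]
    rw [hv, ← Finset.smul_sum, h2, smul_zero, sub_zero]
  have hwX : ∑ x : X, ρ x w = 0 := by
    have h2 : ∑ y : X, ρ y (∑ x : X, ρ x v) = (Fintype.card X : k) • ∑ x : X, ρ x v := by
      rw [Finset.sum_congr rfl fun (y : X) _ => h1 y y.2, Finset.sum_const, Finset.card_univ,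
        Nat.cast_smul_eq_nsmul]
    simp only [hw, map_sub, map_smul, Finset.sum_sub_distrib]
    rw [← Finset.smul_sum, h2, smul_smul, inv_mul_cancel₀ hX0, one_smul, sub_self]
  have hw0 := h w hwA hwX
  rw [hw0] at hw
  have h3 : v = (Fintype.card X : k)⁻¹ • ∑ x : X, ρ x v := (sub_eq_zero.1 hw.symm)
  rw [h3, map_smul, h1 x hx]

end main

end Cfsg.Agent.H135.TD

private theorem dce_497009b2971b : _root_.True := by
  try have : _root_.True := by simp only [_root_.Cfsg.Agent.H135.TD.mu.eq_1]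
  exact _root_.True.intro
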