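import Cfsg.Agent.Cit.HexTorus
import Cfsg.Agent.ChevalleyStructure.FixedCard
import Cfsg.Agent.H135.TD.Spec
import Mathlib
import Cfsg.Agent.Cit.HexCent2
import Cfsg.Agent.H135.TD.TwoKer
import Cfsg.Agent.Lib.SL2Mat
import Cfsg.Agent.H165.RV.HexLin
import Cfsg.Agent.H135.TD.AutOne
import Cfsg.Agent.Cit.HexD4
import Cfsg.Agent.FastGrp
import Cfsg.Agent.Prune
set_option linter.all false
prune_inst 0x7ffdedf8ffb9dfffdfff7e7fa6d8effc38d39fffb6ddf94bbfe0a3ef9b9f030209c52b8d0de050fe0ec3423410b87843fbffffffea6ffc7ffffdfdf45ffbee4ff5f7bd08519788340fbc0fff03f077ce7f3fffffffffffffffffffffffffffbeffbfffffffff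
open scoped Cfsg.Agent.FastGrp

-- part: H135/TD/Act24
section
set_option autoImplicit false

/-!
# The action of the long root `SL(2, q)` on the group `X 2 X 4` (helper135)
-/

namespace Cfsg.Agent.H135.TD

open Cfsg.Agent.SplitTwo Cfsg.Agent.TitsThree.RankTwoZ Cfsg.Agent.Lib.SL2Mat Cfsg.Agent.Cit.HexBase
  Cfsg.Agent.Cit.HexBase.HexGrp
open scoped commutatorElement

section

variable {E : Type*} [Field E] {σ : E ≃+* E} {L : Type*} [Group L] (c : HexGrp σ L)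

theorem eq_of_kk' {G : Type*} [Group G] {a b : G} (h : kk a b = 1) : a * b = b * a := by
  unfold kk at h
  calc a * b = b * a * (a⁻¹ * b⁻¹ * a * b) := by group
    _ = b * a := by rw [h, mul_one]

theorem x24' {a b : E} (ha : σ a = a) (hb : σ b = b) : c.x2 a * c.x4 b = c.x4 b * c.x2 a :=
  eq_of_kk' (c.par.rel.c24 a b ha hb)

theorem comm24 {x y : L} (hx : x ∈ c.X 2) (hy : y ∈ c.X 4) : x * y = y * x := by
  obtain ⟨a, ha, rfl⟩ := (c.par.mem2 _).1 hx
  obtain ⟨b, hb, rfl⟩ := (c.par.mem4 _).1 hy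
  exact x24' c ha hb

theorem comm26 {x y : L} (hx : x ∈ c.X 2) (hy : y ∈ c.X 6) : ⁅x, y⁆ ∈ c.X 4 := by
  obtain ⟨a, ha, rfl⟩ := (c.par.mem2 _).1 hx
  obtain ⟨b, hb, rfl⟩ := (c.par.mem6 _).1 hy
  have h := c.par.rel.c26 (-a) (-b) (neg_fix ha) (neg_fix hb)
  unfold kk at h
  rw [c.x2_neg ha, c.x6_neg hb, inv_inv, inv_inv, ← commutatorElement_def] at h
  rw [h]
  exact c.mem4 (mul_fix (neg_fix ha) (neg_fix hb))

theorem conj_inv_mem {n : L} {f : ZMod (2 * 6) → ZMod (2 * 6)} (hn : Maps c.X n f) {k j : ZMod (2 * 6)} {x : L}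
    (hx : x ∈ c.X j) (e : f k = j) : n⁻¹ * x * n ∈ c.X k := by
  rw [← hn k, e]
  convert hx using 1
  group

theorem comm02 {x y : L} (hx : x ∈ c.X 0) (hy : y ∈ c.X 2) : x * y = y * x := by
  have h1 : (c.n1 * c.n6) * x * (c.n1 * c.n6)⁻¹ ∈ c.X 2 := maps_mem c.maps_rot2 hx (by decide)
  have h2 : (c.n1 * c.n6) * y * (c.n1 * c.n6)⁻¹ ∈ c.X 4 := maps_mem c.maps_rot2 hy (by decide)
  have h3 := comm24 c h1 h2
  generalize c.n1 * c.n6 = n at h3
  calc x * y = n⁻¹ * ((n * x * n⁻¹) * (n * y * n⁻¹)) * n := by group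
    _ = n⁻¹ * ((n * y * n⁻¹) * (n * x * n⁻¹)) * n := by rw [h3]
    _ = y * x := by group

theorem comm04 {x y : L} (hx : x ∈ c.X 0) (hy : y ∈ c.X 4) : ⁅x, y⁆ ∈ c.X 2 := by
  have h1 : (c.n1 * c.n6) * x * (c.n1 * c.n6)⁻¹ ∈ c.X 2 := maps_mem c.maps_rot2 hx (by decide)
  have h2 : (c.n1 * c.n6) * y * (c.n1 * c.n6)⁻¹ ∈ c.X 6 := maps_mem c.maps_rot2 hy (by decide)
  have h3 := comm26 c h1 h2
  have h4 : (c.n1 * c.n6)⁻¹ * ⁅(c.n1 * c.n6) * x * (c.n1 * c.n6)⁻¹, (c.n1 * c.n6) * y * (c.n1 * c.n6)⁻¹⁆ *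
      (c.n1 * c.n6) ∈ c.X 2 := conj_inv_mem c c.maps_rot2 h3 (by decide)
  convert h4 using 1
  generalize c.n1 * c.n6 = n
  simp only [commutatorElement_def]
  group

/-- `x2 a` conjugated by `x6 t` -/
theorem conj62 {a t : E} (ha : σ a = a) (ht : σ t = t) :
    c.x6 t * c.x2 a * (c.x6 t)⁻¹ = c.x2 a * c.x4 (-(t * a)) := by
  have h := c.par.rel.c26 a (-t) ha (neg_fix ht)
  unfold kk at h
  rw [c.x6_neg ht, inv_inv] at h
  rw [show -(t * a) = a * -t by ring, ← h]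
  group

theorem conj64 {b t : E} (hb : σ b = b) (ht : σ t = t) : c.x6 t * c.x4 b * (c.x6 t)⁻¹ = c.x4 b := by
  rw [← eq_of_kk' (c.par.rel.c46 b t hb ht), mul_inv_cancel_right]

theorem aux24 (t : ↥(fx σ)) (ht : t ≠ 0) {a : E} (ha : σ a = a) :
    c.pa (wm t ht) * c.x2 a * (c.pa (wm t ht))⁻¹ = c.x4 (-(t * a)) ∧
    ⁅c.pa (lo (-t⁻¹)), c.x4 (-(t * a))⁆ = (c.x2 a)⁻¹ := by
  obtain ⟨y, hy⟩ : ∃ y : L, y = c.pa (lo (-t⁻¹)) := ⟨_, rfl⟩
  have hy0 : y ∈ c.X 0 := (c.pa_lo _).2 ⟨_, hy.symm⟩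
  have htf : σ (t : E) = t := t.2
  have hw : c.pa (wm t ht) = y * c.x6 t * y := by
    rw [wm_eq, map_mul, map_mul, c.pa_up, hy]
  have h2 := c.mem2 ha
  have hfix : σ (-((t : E) * a)) = -(t * a) := neg_fix (mul_fix htf ha)
  have h4 := c.mem4 hfix
  have hc : y * c.x2 a * y⁻¹ = c.x2 a := by rw [comm02 c hy0 h2, mul_inv_cancel_right]
  have hg : c.pa (wm t ht) * c.x2 a * (c.pa (wm t ht))⁻¹ ∈ c.X 4 := maps_mem (c.mapsA t ht) h2 (by decide)
  have e : c.pa (wm t ht) * c.x2 a * (c.pa (wm t ht))⁻¹ = c.x2 a * ⁅y, c.x4 (-(t * a))⁆ * c.x4 (-(t * a)) := by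
    calc c.pa (wm t ht) * c.x2 a * (c.pa (wm t ht))⁻¹
        = y * (c.x6 t * (y * c.x2 a * y⁻¹) * (c.x6 t)⁻¹) * y⁻¹ := by rw [hw]; group
      _ = y * (c.x2 a * c.x4 (-(t * a))) * y⁻¹ := by rw [hc, conj62 c ha htf]
      _ = (y * c.x2 a * y⁻¹) * (y * c.x4 (-(t * a)) * y⁻¹) := by group
      _ = _ := by rw [hc, commutatorElement_def]; group
  have hm : c.x2 a * ⁅y, c.x4 (-(t * a))⁆ ∈ Sg c.X {2} :=
    c.sg (by decide) (mul_mem h2 (comm04 c hy0 h4))
  have h3 := c.peel' (k := 4) (s := {2}) (by decide +kernel) hg (one_mem _) h4 hm (by rw [one_mul]; exact e)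
  refine ⟨h3.1, ?_⟩
  rw [← hy]
  exact (inv_eq_of_mul_eq_one_right h3.2.symm).symm

/-- `x4 b` conjugated by the lower triangular matrices -/
theorem conjlo4 (s : ↥(fx σ)) {b : E} (hb : σ b = b) :
    c.pa (lo s) * c.x4 b * (c.pa (lo s))⁻¹ = c.x2 (-(s * b)) * c.x4 b := by
  by_cases hs : s = 0
  · subst hs
    rw [lo_zero, map_one, one_mul, inv_one, mul_one, ZeroMemClass.coe_zero, zero_mul, neg_zero, c.x2_zero, one_mul]
  · have ht : -s⁻¹ ≠ 0 := neg_ne_zero.2 (inv_ne_zero hs)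
    have hsf : σ (s : E) = s := s.2
    have hfix : σ ((s : E) * b) = s * b := mul_fix hsf hb
    have h0 : (s : E) ≠ 0 := fun h => hs (Subtype.ext h)
    have h := (aux24 c (-s⁻¹) ht hfix).2
    have e1 : (-(-s⁻¹)⁻¹ : ↥(fx σ)) = s := by rw [inv_neg, neg_neg, inv_inv]
    have e2 : -(((-s⁻¹ : ↥(fx σ)) : E) * (s * b)) = b := by
      push_cast
      field_simp
    rw [e1, e2, commutatorElement_def] at h
    rw [c.x2_neg hfix, ← h]
    group

theorem conjlo2 (s : ↥(fx σ)) {a : E} (ha : σ a = a) :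
    c.pa (lo s) * c.x2 a * (c.pa (lo s))⁻¹ = c.x2 a := by
  rw [comm02 c ((c.pa_lo _).2 ⟨s, rfl⟩) (c.mem2 ha), mul_inv_cancel_right]

/-- the matrices act as they do on the dual of the natural module -/
theorem pa_act (g : SL2 ↥(fx σ)) : ∀ (a b : ↥(fx σ)), c.pa g * (c.x2 a * c.x4 b) * (c.pa g)⁻¹ =
    c.x2 ((ent g 1 1 * a - ent g 1 0 * b : ↥(fx σ)) : E) * c.x4 ((ent g 0 0 * b - ent g 0 1 * a : ↥(fx σ)) : E) := by
  -- a predicate closed under products
  have hmul : ∀ g h : SL2 ↥(fx σ),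
      (∀ (a b : ↥(fx σ)), c.pa g * (c.x2 a * c.x4 b) * (c.pa g)⁻¹ =
        c.x2 ((ent g 1 1 * a - ent g 1 0 * b : ↥(fx σ)) : E) * c.x4 ((ent g 0 0 * b - ent g 0 1 * a : ↥(fx σ)) : E)) →
      (∀ (a b : ↥(fx σ)), c.pa h * (c.x2 a * c.x4 b) * (c.pa h)⁻¹ =
        c.x2 ((ent h 1 1 * a - ent h 1 0 * b : ↥(fx σ)) : E) * c.x4 ((ent h 0 0 * b - ent h 0 1 * a : ↥(fx σ)) : E)) →
      (∀ (a b : ↥(fx σ)), c.pa (g * h) * (c.x2 a * c.x4 b) * (c.pa (g * h))⁻¹ =
        c.x2 ((ent (g * h) 1 1 * a - ent (g * h) 1 0 * b : ↥(fx σ)) : E) *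
          c.x4 ((ent (g * h) 0 0 * b - ent (g * h) 0 1 * a : ↥(fx σ)) : E)) := by
    intro g h hg hh a b
    have e : c.pa (g * h) * (c.x2 a * c.x4 b) * (c.pa (g * h))⁻¹ =
        c.pa g * (c.pa h * (c.x2 a * c.x4 b) * (c.pa h)⁻¹) * (c.pa g)⁻¹ := by
      rw [map_mul, mul_inv_rev]
      group
    rw [e, hh, hg]
    congr 2
    · simp only [ent_mul]
      push_cast
      ring
    · simp only [ent_mul]
      push_cast
      ring
  have hup : ∀ u : ↥(fx σ), ∀ (a b : ↥(fx σ)), c.pa (up u) * (c.x2 a * c.x4 b) * (c.pa (up u))⁻¹ =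
      c.x2 ((ent (up u) 1 1 * a - ent (up u) 1 0 * b : ↥(fx σ)) : E) *
        c.x4 ((ent (up u) 0 0 * b - ent (up u) 0 1 * a : ↥(fx σ)) : E) := by
    intro u a b
    have hu : σ (u : E) = u := u.2
    have ha : σ (a : E) = a := a.2
    have hb : σ (b : E) = b := b.2
    rw [c.pa_up]
    have e : c.x6 u * (c.x2 a * c.x4 b) * (c.x6 u)⁻¹ =
        (c.x6 u * c.x2 a * (c.x6 u)⁻¹) * (c.x6 u * c.x4 b * (c.x6 u)⁻¹) := by group
    rw [e, conj62 c ha hu, conj64 c hb hu, mul_assoc, ← c.x4_add (neg_fix (mul_fix hu ha)) hb]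
    congr 2
    · simp only [up_11, up_10]
      push_cast
      ring
    · simp only [up_00, up_01]
      push_cast
      ring
  have hlo : ∀ u : ↥(fx σ), ∀ (a b : ↥(fx σ)), c.pa (lo u) * (c.x2 a * c.x4 b) * (c.pa (lo u))⁻¹ =
      c.x2 ((ent (lo u) 1 1 * a - ent (lo u) 1 0 * b : ↥(fx σ)) : E) *
        c.x4 ((ent (lo u) 0 0 * b - ent (lo u) 0 1 * a : ↥(fx σ)) : E) := by
    intro u a b
    have hu : σ (u : E) = u := u.2
    have ha : σ (a : E) = a := a.2
    have hb : σ (b : E) = b := b.2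
    have e : c.pa (lo u) * (c.x2 a * c.x4 b) * (c.pa (lo u))⁻¹ =
        (c.pa (lo u) * c.x2 a * (c.pa (lo u))⁻¹) * (c.pa (lo u) * c.x4 b * (c.pa (lo u))⁻¹) := by group
    rw [e, conjlo2 c u ha, conjlo4 c u hb, ← mul_assoc, ← c.x2_add ha (neg_fix (mul_fix hu hb))]
    congr 2
    · simp only [lo_11, lo_10]
      push_cast
      ring
    · simp only [lo_00, lo_01]
      push_cast
      ring
  obtain ⟨x, y, z, w, rfl⟩ := exists_up_lo g
  exact hmul _ _ (hmul _ _ (hmul _ _ (hup x) (hlo y)) (hup z)) (hlo w)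

end

end Cfsg.Agent.H135.TD
end

-- part: H135/TD/Fld
section
set_option autoImplicit false

/-!
# Facts on the field with `q ^ 3` elements (helper135)
-/

namespace Cfsg.Agent.H135.TD

open Cfsg.Agent.SplitTwo Cfsg.Agent.Cit.HexBase
open Cfsg.Agent.ChevalleyStructure

/-- the field of `q ^ 3` elements and its automorphism of order three -/
structure Fd (p q : ℕ) {E : Type*} [Field E] (σ : E ≃+* E) : Prop where
  par : Par p q
  fin : Finite E
  card : Nat.card E = q ^ 3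
  frob : ∀ x, σ x = x ^ q
  char : CharP E p

namespace Fd

variable {p q : ℕ} {E : Type*} [Field E] {σ : E ≃+* E} (hd : Fd p q σ)

include hd

theorem one_lt : 1 < q := by have := hd.par.hq; omega

theorem cube (t : E) : σ (σ (σ t)) = t := by
  have := hd.fin
  have := Fintype.ofFinite E
  rw [hd.frob, hd.frob, hd.frob, ← pow_mul, ← pow_mul]
  have h : q * (q * q) = q ^ 3 := by ring
  rw [h, ← hd.card, Nat.card_eq_fintype_card]
  exact FiniteField.pow_card t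

theorem card_fx : Nat.card ↥(fx σ) = q := by
  have := hd.fin
  have := Fintype.ofFinite E
  have h := hd.card
  rw [Nat.card_eq_fintype_card] at h
  rw [← FixedCard.card_fixed hd.one_lt h]
  exact Nat.card_congr (Equiv.subtypeEquivRight fun x => by rw [mem_fx, hd.frob])

theorem nrm_eq (s : E) : nrm σ s = s ^ (q ^ 2 + q + 1) := by
  unfold nrm
  rw [hd.frob, hd.frob, ← pow_mul, ← pow_succ', ← pow_add]
  congr 1
  ring

theorem exists_trc : ∃ a b : E, trc σ a b ≠ 0 := by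
  classical
  have := hd.fin
  have := Fintype.ofFinite E
  have hK := hd.card
  rw [Nat.card_eq_fintype_card] at hK
  have hq := hd.one_lt
  by_contra hcon
  push Not at hcon
  have h1 : ∀ z : E, z + z ^ q + z ^ (q ^ 2) = 0 := by
    intro z
    have := hcon 1 z
    rw [trc, one_mul, hd.frob, hd.frob, ← pow_mul] at this
    rw [pow_two]
    exact this
  let P : Polynomial E := Polynomial.X + Polynomial.X ^ q + Polynomial.X ^ (q ^ 2)
  have hq2 : q < q ^ 2 := by nlinarith only [hq]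
  have hdeg : P.natDegree ≤ q ^ 2 := by
    refine Polynomial.natDegree_add_le_of_degree_le (Polynomial.natDegree_add_le_of_degree_le ?_ ?_) ?_
    · rw [Polynomial.natDegree_X]; omega
    · rw [Polynomial.natDegree_X_pow]; omega
    · rw [Polynomial.natDegree_X_pow]
  have hP : P = 0 := by
    refine Polynomial.eq_zero_of_natDegree_lt_card_of_eval_eq_zero P (f := id) Function.injective_id (fun z => ?_) ?_
    · simp only [P, Polynomial.eval_add, Polynomial.eval_X, Polynomial.eval_pow, id_eq]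
      exact h1 z
    · rw [hK]
      have : q ^ 2 < q ^ 3 := by nlinarith only [hq2]
      omega
  have h2 : P.coeff 1 = 1 := by
    simp only [P, Polynomial.coeff_add, Polynomial.coeff_X_one, Polynomial.coeff_X_pow]
    rw [if_neg (by omega), if_neg (by omega), add_zero, add_zero]
  rw [hP, Polynomial.coeff_zero] at h2
  exact zero_ne_one h2

omit hd in
theorem trc_mul {t : E} (ht : σ t = t) (a b : E) : trc σ a (t * b) = t * trc σ a b := by
  unfold trc
  simp only [map_mul, ht]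
  ring

/-- every element of the fixed field is a value of the trace form -/
theorem exists_trc_eq {t : E} (ht : σ t = t) : ∃ a b : E, trc σ a b = t := by
  obtain ⟨a, b, h⟩ := hd.exists_trc
  have h1 : σ (trc σ a b) = trc σ a b := trc_fix hd.cube a b
  refine ⟨a, t * (trc σ a b)⁻¹ * b, ?_⟩
  rw [trc_mul (mul_fix ht (inv_fix h1)), inv_mul_cancel_right₀ h]

theorem char_fx : CharP ↥(fx σ) p := by
  have := hd.char
  exact (RingHom.charP_iff (fx σ).subtype (fx σ).subtype.injective p).2 inferInstance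

end Fd

end Cfsg.Agent.H135.TD
end

-- part: H135/TD/Unip
section
set_option autoImplicit false

/-!
# Regular unipotent elements (helper135)

* characteristic 2: `(x1 1 * x6 1 * v) ^ 4 = x4 1`
* characteristic 3: `(x1 1 * x6 1) ^ 3 = x3 1 * x4 (-1)`
-/

namespace Cfsg.Agent.H135.TD

open Cfsg.Agent.SplitTwo Cfsg.Agent.TitsThree.RankTwoZ Cfsg.Agent.Lib.SL2Mat Cfsg.Agent.Cit.HexBase
  Cfsg.Agent.Cit.HexBase.HexGrp
open scoped commutatorElement

variable {E : Type*} [Field E] {σ : E ≃+* E} {L : Type*} [Group L] (c : HexGrp σ L)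

theorem kk_inv {G : Type*} [Group G] (a b : G) : kk b a = (kk a b)⁻¹ := by
  unfold kk
  group

theorem conj_eq_kk {G : Type*} [Group G] (a b : G) : a⁻¹ * b * a = b * kk b a := by
  unfold kk
  group

theorem u23 {t a : E} (ht : σ t = t) : c.x2 t * c.x3 a = c.x3 a * c.x2 t := eq_of_kk' (c.par.rel.c23 t a ht)
theorem u24 {t a : E} (ht : σ t = t) (ha : σ a = a) : c.x2 t * c.x4 a = c.x4 a * c.x2 t :=
  eq_of_kk' (c.par.rel.c24 t a ht ha)
theorem u25 {t a : E} (ht : σ t = t) : c.x2 t * c.x5 a = c.x5 a * c.x2 t := eq_of_kk' (c.par.rel.c25 t a ht)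
theorem u34 {a t : E} (ht : σ t = t) : c.x3 a * c.x4 t = c.x4 t * c.x3 a := eq_of_kk' (c.par.rel.c34 a t ht)
theorem u45 {t a : E} (ht : σ t = t) : c.x4 t * c.x5 a = c.x5 a * c.x4 t := eq_of_kk' (c.par.rel.c45 t a ht)
theorem u12 {a t : E} (ht : σ t = t) : c.x1 a * c.x2 t = c.x2 t * c.x1 a := eq_of_kk' (c.par.rel.c12 a t ht)
theorem u14 {a t : E} (ht : σ t = t) : c.x1 a * c.x4 t = c.x4 t * c.x1 a := eq_of_kk' (c.par.rel.c14 a t ht)
theorem u36 {a t : E} (ht : σ t = t) : c.x3 a * c.x6 t = c.x6 t * c.x3 a := eq_of_kk' (c.par.rel.c36 a t ht)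
theorem u56 {a t : E} (ht : σ t = t) : c.x5 a * c.x6 t = c.x6 t * c.x5 a := eq_of_kk' (c.par.rel.c56 a t ht)
theorem u46 {a t : E} (ha : σ a = a) (ht : σ t = t) : c.x4 a * c.x6 t = c.x6 t * c.x4 a :=
  eq_of_kk' (c.par.rel.c46 a t ha ht)

theorem u53 (a b : E) (h : σ (trc σ b a) = trc σ b a) :
    c.x5 a * c.x3 b = c.x3 b * c.x5 a * c.x4 (-(trc σ b a)) := by
  have h1 := c.par.rel.c35 b a
  rw [c.x4_neg h, ← h1]
  unfold kk
  group

theorem shp_fix {a : E} (ha : σ a = a) : shp σ a = a ^ 2 := by unfold shp; rw [ha, ha, pow_two]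
theorem trc_of_fix {a b : E} (ha : σ a = a) (hb : σ b = b) : trc σ a b = 3 * (a * b) := by
  unfold trc
  rw [map_mul, ha, hb, map_mul, ha, hb]
  ring
theorem crs_of_fix {a b : E} (ha : σ a = a) (hb : σ b = b) : crs σ a b = 2 * (a * b) := by
  unfold crs
  rw [ha, hb, ha, hb]
  ring

theorem fix_add {a b : E} (ha : σ a = a) (hb : σ b = b) : σ (a + b) = a + b := by rw [map_add, ha, hb]
theorem fix_sub {a b : E} (ha : σ a = a) (hb : σ b = b) : σ (a - b) = a - b := by rw [map_sub, ha, hb]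
theorem fix_pow {a : E} (ha : σ a = a) (n : ℕ) : σ (a ^ n) = a ^ n := by rw [map_pow, ha]
theorem fix_num (n : ℕ) [n.AtLeastTwo] {a : E} (ha : σ a = a) : σ (OfNat.ofNat n * a) = OfNat.ofNat n * a := by
  rw [map_mul, ha, map_ofNat]

/-- `x2 s x3 b x4 t x5 e` -/
def ff (s b t e : E) : L := c.x2 s * c.x3 b * c.x4 t * c.x5 e

theorem ff_mul {s b t e s' b' t' e' : E} (hs : σ s = s) (_hb : σ b = b) (ht : σ t = t) (he : σ e = e)
    (hs' : σ s' = s') (hb' : σ b' = b') (ht' : σ t' = t') (_he' : σ e' = e') :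
    ff c s b t e * ff c s' b' t' e' = ff c (s + s') (b + b') (t + t' - 3 * (b' * e)) (e + e') := by
  have h3 : σ (3 * (b' * e)) = 3 * (b' * e) := fix_num 3 (mul_fix hb' he)
  have h53 : c.x5 e * c.x3 b' = c.x3 b' * c.x5 e * c.x4 (-(3 * (b' * e))) := by
    have := u53 c e b' (by rw [trc_of_fix hb' he]; exact h3)
    rwa [trc_of_fix hb' he] at this
  unfold ff
  rw [c.x2_add hs hs', c.x3_add, sub_eq_add_neg, c.x4_add (fix_add ht ht') (neg_fix h3), c.x4_add ht ht', c.x5_add]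
  calc c.x2 s * c.x3 b * c.x4 t * c.x5 e * (c.x2 s' * c.x3 b' * c.x4 t' * c.x5 e')
      = c.x2 s * c.x3 b * c.x4 t * (c.x5 e * c.x2 s') * c.x3 b' * c.x4 t' * c.x5 e' := by group
    _ = c.x2 s * c.x3 b * (c.x4 t * c.x2 s') * c.x5 e * c.x3 b' * c.x4 t' * c.x5 e' := by rw [← u25 c hs']; group
    _ = c.x2 s * (c.x3 b * c.x2 s') * c.x4 t * c.x5 e * c.x3 b' * c.x4 t' * c.x5 e' := by rw [← u24 c hs' ht]; group
    _ = c.x2 s * c.x2 s' * c.x3 b * c.x4 t * (c.x5 e * c.x3 b') * c.x4 t' * c.x5 e' := by rw [← u23 c hs']; group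
    _ = c.x2 s * c.x2 s' * c.x3 b * (c.x4 t * c.x3 b') * c.x5 e * c.x4 (-(3 * (b' * e))) * c.x4 t' * c.x5 e' := by
        rw [h53]; group
    _ = c.x2 s * c.x2 s' * c.x3 b * c.x3 b' * c.x4 t * (c.x5 e * c.x4 (-(3 * (b' * e)))) * c.x4 t' * c.x5 e' := by
        rw [← u34 c ht]; group
    _ = c.x2 s * c.x2 s' * c.x3 b * c.x3 b' * c.x4 t * c.x4 (-(3 * (b' * e))) * (c.x5 e * c.x4 t') * c.x5 e' := by
        rw [← u45 c (neg_fix h3)]; group
    _ = c.x2 s * c.x2 s' * c.x3 b * c.x3 b' * c.x4 t * (c.x4 (-(3 * (b' * e))) * c.x4 t') * c.x5 e * c.x5 e' := by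
        rw [← u45 c ht']; group
    _ = c.x2 s * c.x2 s' * (c.x3 b * c.x3 b') * (c.x4 t * c.x4 t' * c.x4 (-(3 * (b' * e)))) * (c.x5 e * c.x5 e') := by
        rw [← c.x4_add (neg_fix h3) ht', add_comm, c.x4_add ht' (neg_fix h3)]; group

/-- conjugation by `x1 a` -/
theorem ff_conj1 {a s b t e : E} (ha : σ a = a) (hs : σ s = s) (hb : σ b = b) (ht : σ t = t) (he : σ e = e) :
    (c.x1 a)⁻¹ * ff c s b t e * c.x1 a =
      ff c (s + 3 * (a ^ 2 * e) - 3 * (a * b)) (b - 2 * (a * e)) (t + 3 * (a * e ^ 2)) e := by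
  have fab : σ (3 * (a * b)) = 3 * (a * b) := fix_num 3 (mul_fix ha hb)
  have f1 : σ (3 * (a ^ 2 * e)) = 3 * (a ^ 2 * e) := fix_num 3 (mul_fix (fix_pow ha 2) he)
  have f2 : σ (3 * (a * e ^ 2)) = 3 * (a * e ^ 2) := fix_num 3 (mul_fix ha (fix_pow he 2))
  have h13 : (c.x1 a)⁻¹ * c.x3 b * c.x1 a = c.x3 b * c.x2 (-(3 * (a * b))) := by
    have h := c.par.rel.c13 a b
    rw [trc_of_fix ha hb] at h
    rw [conj_eq_kk, kk_inv, h, c.x2_neg fab]
  have h15 : (c.x1 a)⁻¹ * c.x5 e * c.x1 a = c.x5 e * (c.x4 (-(3 * (a * e ^ 2))) * c.x3 (-(2 * (a * e))) * c.x2 (3 * (a ^ 2 * e))) := by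
    have h := c.par.rel.c15 a e
    rw [shp_fix ha, shp_fix he, trc_of_fix (fix_pow ha 2) he, crs_of_fix ha he, trc_of_fix ha (fix_pow he 2)] at h
    rw [conj_eq_kk, kk_inv, h, c.x4_neg f2, c.x3_neg, c.x2_neg f1]
    group
  have h12 : (c.x1 a)⁻¹ * c.x2 s * c.x1 a = c.x2 s := by rw [mul_assoc, ← u12 c hs]; group
  have h14 : (c.x1 a)⁻¹ * c.x4 t * c.x1 a = c.x4 t := by rw [mul_assoc, ← u14 c ht]; group
  have e1 : (c.x1 a)⁻¹ * ff c s b t e * c.x1 a = ((c.x1 a)⁻¹ * c.x2 s * c.x1 a) * ((c.x1 a)⁻¹ * c.x3 b * c.x1 a) *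
      ((c.x1 a)⁻¹ * c.x4 t * c.x1 a) * ((c.x1 a)⁻¹ * c.x5 e * c.x1 a) := by
    unfold ff
    group
  rw [e1, h12, h13, h14, h15]
  have e2 : c.x2 s * (c.x3 b * c.x2 (-(3 * (a * b)))) = ff c (s + -(3 * (a * b))) b 0 0 := by
    unfold ff
    rw [c.x4_zero, c.x5_zero, mul_one, mul_one, c.x2_add hs (neg_fix fab), ← u23 c (neg_fix fab), mul_assoc]
  have e3 : c.x4 t = ff c 0 0 t 0 := by
    unfold ff
    rw [c.x2_zero, c.x3_zero, c.x5_zero, one_mul, one_mul, mul_one]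
  have e5 : c.x5 e = ff c 0 0 0 e := by
    unfold ff
    rw [c.x2_zero, c.x3_zero, c.x4_zero, one_mul, one_mul, one_mul]
  have e6 : c.x4 (-(3 * (a * e ^ 2))) * c.x3 (-(2 * (a * e))) * c.x2 (3 * (a ^ 2 * e)) =
      ff c (3 * (a ^ 2 * e)) (-(2 * (a * e))) (-(3 * (a * e ^ 2))) 0 := by
    unfold ff
    rw [c.x5_zero, mul_one, ← u34 c (neg_fix f2), mul_assoc, ← u24 c f1 (neg_fix f2), ← mul_assoc,
      ← u23 c f1]
  have z0 : σ (0 : E) = 0 := map_zero σ
  have g1 : σ (2 * (a * e)) = 2 * (a * e) := fix_num 2 (mul_fix ha he)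
  rw [e2, e3, e5, e6, ff_mul c (fix_add hs (neg_fix fab)) hb z0 z0 z0 z0 ht z0,
    ff_mul c z0 z0 z0 he f1 (neg_fix g1) (neg_fix f2) z0, ff_mul c]
  · congr 1 <;> ring
  all_goals
    simp only [map_add, map_sub, map_mul, map_neg, map_zero, map_pow, ha, hb, he, hs, ht, map_ofNat]

/-- conjugation by `x6 u` -/
theorem ff_conj6 {u s b t e : E} (hu : σ u = u) (hs : σ s = s) (ht : σ t = t) :
    (c.x6 u)⁻¹ * ff c s b t e * c.x6 u = ff c s b (t + s * u) e := by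
  have h2 : (c.x6 u)⁻¹ * c.x2 s * c.x6 u = c.x2 s * c.x4 (s * u) := by
    have h := c.par.rel.c26 s u hs hu
    rw [← h]
    unfold kk
    group
  have h3 : (c.x6 u)⁻¹ * c.x3 b * c.x6 u = c.x3 b := by rw [mul_assoc, u36 c hu]; group
  have h4 : (c.x6 u)⁻¹ * c.x4 t * c.x6 u = c.x4 t := by rw [mul_assoc, u46 c ht hu]; group
  have h5 : (c.x6 u)⁻¹ * c.x5 e * c.x6 u = c.x5 e := by rw [mul_assoc, u56 c hu]; group
  have e1 : (c.x6 u)⁻¹ * ff c s b t e * c.x6 u = ((c.x6 u)⁻¹ * c.x2 s * c.x6 u) * ((c.x6 u)⁻¹ * c.x3 b * c.x6 u) *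
      ((c.x6 u)⁻¹ * c.x4 t * c.x6 u) * ((c.x6 u)⁻¹ * c.x5 e * c.x6 u) := by
    unfold ff
    group
  have hsu : σ (s * u) = s * u := mul_fix hs hu
  rw [e1, h2, h3, h4, h5]
  unfold ff
  rw [add_comm t, c.x4_add hsu ht]
  calc c.x2 s * c.x4 (s * u) * c.x3 b * c.x4 t * c.x5 e
      = c.x2 s * (c.x4 (s * u) * c.x3 b) * c.x4 t * c.x5 e := by group
    _ = _ := by rw [← u34 c hsu]; group

/-- the commutator of `x1 a` and `x6 u` -/
theorem kk16 {a u : E} (ha : σ a = a) (hu : σ u = u) :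
    kk (c.x1 a) (c.x6 u) = ff c (-(u * a ^ 3)) (u * a ^ 2) (u ^ 2 * a ^ 3) (-(u * a)) := by
  have h := c.par.rel.c16 a u hu
  rw [nrm_of_fix ha, shp_fix ha] at h
  exact h

theorem ff_zero : ff c 0 0 0 0 = 1 := by
  unfold ff
  rw [c.x2_zero, c.x3_zero, c.x4_zero, c.x5_zero, one_mul, one_mul, one_mul]

theorem ff_inv {s b t e : E} (hs : σ s = s) (hb : σ b = b) (ht : σ t = t) (he : σ e = e) :
    (ff c s b t e)⁻¹ = ff c (-s) (-b) (-t - 3 * (b * e)) (-e) := by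
  rw [inv_eq_iff_mul_eq_one, ff_mul c hs hb ht he (neg_fix hs) (neg_fix hb) ?_ (neg_fix he), ← ff_zero c]
  · congr 1 <;> ring
  · exact fix_sub (neg_fix ht) (fix_num 3 (mul_fix hb he))

theorem kk61 {a u : E} (ha : σ a = a) (hu : σ u = u) :
    kk (c.x6 u) (c.x1 a) = ff c (u * a ^ 3) (-(u * a ^ 2)) (2 * (u ^ 2 * a ^ 3)) (u * a) := by
  rw [kk_inv, kk16 c ha hu, ff_inv c]
  · congr 1 <;> ring
  all_goals
    simp only [map_mul, map_neg, map_pow, ha, hu]

/-- the third power of a regular unipotent element, characteristic three -/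
theorem reg_pow_three [CharP E 3] : (c.x1 1 * c.x6 1) ^ 3 = c.x3 1 * c.x4 (-1) := by
  have h1 : σ (1 : E) = 1 := map_one σ
  have h3 : (3 : E) = 0 := CharP.cast_eq_zero E 3
  have e : (c.x1 1 * c.x6 1) ^ 3 = c.x1 1 * c.x1 1 * c.x1 1 * (c.x6 1 * c.x6 1 * c.x6 1) *
      ((c.x6 1)⁻¹ * ((c.x6 1)⁻¹ * kk (c.x6 1) (c.x1 1) * c.x6 1) * c.x6 1) *
      ((c.x6 1)⁻¹ * kk (c.x6 1) (c.x1 1) * c.x6 1) *
      ((c.x6 1)⁻¹ * ((c.x1 1)⁻¹ * ((c.x6 1)⁻¹ * kk (c.x6 1) (c.x1 1) * c.x6 1) * c.x1 1) * c.x6 1) := by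
    unfold kk
    simp only [pow_succ, pow_zero, one_mul]
    group
  have ex1 : c.x1 1 * c.x1 1 * c.x1 1 = 1 := by
    rw [← c.x1_add, ← c.x1_add, ← c.x1_zero]
    congr 1
    linear_combination h3
  have ex6 : c.x6 1 * c.x6 1 * c.x6 1 = 1 := by
    rw [← c.x6_add h1 h1, ← c.x6_add (fix_add h1 h1) h1, ← c.x6_zero]
    congr 1
    linear_combination h3
  have s1 : ∀ {s b t e s' b' t' e' : E}, s = s' → b = b' → t = t' → e = e' → ff c s b t e = ff c s' b' t' e' := by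
    rintro _ _ _ _ _ _ _ _ rfl rfl rfl rfl
    rfl
  have m1 : σ (-1 : E) = -1 := neg_fix h1
  have m0 : σ (0 : E) = 0 := map_zero σ
  have k1 : kk (c.x6 1) (c.x1 1) = ff c 1 (-1) (-1) 1 := by
    rw [kk61 c h1 h1]
    exact s1 (by ring) (by ring) (by linear_combination h3) (by ring)
  have k2 : (c.x6 1)⁻¹ * kk (c.x6 1) (c.x1 1) * c.x6 1 = ff c 1 (-1) 0 1 := by
    rw [k1, ff_conj6 c h1 h1 m1]
    exact s1 rfl rfl (by ring) rfl
  have k3 : (c.x6 1)⁻¹ * ((c.x6 1)⁻¹ * kk (c.x6 1) (c.x1 1) * c.x6 1) * c.x6 1 = ff c 1 (-1) 1 1 := by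
    rw [k2, ff_conj6 c h1 h1 m0]
    exact s1 rfl rfl (by ring) rfl
  have k4 : (c.x1 1)⁻¹ * ((c.x6 1)⁻¹ * kk (c.x6 1) (c.x1 1) * c.x6 1) * c.x1 1 = ff c 1 0 0 1 := by
    rw [k2, ff_conj1 c h1 h1 m1 m0 h1]
    exact s1 (by linear_combination 2 * h3) (by linear_combination -h3) (by linear_combination h3) rfl
  have k5 : (c.x6 1)⁻¹ * ((c.x1 1)⁻¹ * ((c.x6 1)⁻¹ * kk (c.x6 1) (c.x1 1) * c.x6 1) * c.x1 1) * c.x6 1 = ff c 1 0 1 1 := by
    rw [k4, ff_conj6 c h1 h1 m0]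
    exact s1 rfl rfl (by ring) rfl
  rw [e, ex1, ex6, k5, k3, k2, one_mul, one_mul]
  have e3 : c.x3 1 * c.x4 (-1) = ff c 0 1 (-1) 0 := by
    unfold ff
    rw [c.x2_zero, c.x5_zero, one_mul, mul_one]
  rw [ff_mul c h1 m1 h1 h1 h1 m1 m0 h1, e3, ff_mul c]
  · exact s1 (by linear_combination h3) (by linear_combination -h3) (by linear_combination 2 * h3)
      (by linear_combination h3)
  all_goals
    simp only [map_add, map_sub, map_mul, map_neg, map_zero, map_one, map_ofNat]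

theorem orderOf_nine [CharP E 3] : orderOf (c.x1 1 * c.x6 1) = 9 := by
  have h1 : σ (1 : E) = 1 := map_one σ
  have h3 : (3 : E) = 0 := CharP.cast_eq_zero E 3
  have m1 : σ (-1 : E) = -1 := neg_fix h1
  have hp : Fact (Nat.Prime 3) := ⟨Nat.prime_three⟩
  have e : (9 : ℕ) = 3 ^ (1 + 1) := by norm_num
  rw [e]
  apply orderOf_eq_prime_pow
  · rw [pow_one, reg_pow_three]
    intro h
    have h2 := c.uniq25 (one_mem (c.X 2)) (c.mem3 1) (c.mem4 m1) (one_mem (c.X 5)) (one_mem (c.X 2)) (one_mem (c.X 3))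
      (one_mem (c.X 4)) (one_mem (c.X 5)) (by rw [one_mul, mul_one, h]; simp)
    have h3 := h2.2.1
    rw [← c.x3_zero] at h3
    exact one_ne_zero (c.x3_inj h3)
  · rw [pow_succ, pow_one, pow_mul, reg_pow_three]
    have hc : c.x3 1 * c.x4 (-1) = c.x4 (-1) * c.x3 1 := u34 c m1
    have e1 : (c.x3 1 * c.x4 (-1)) ^ 3 = (c.x3 1 * c.x3 1 * c.x3 1) * (c.x4 (-1) * c.x4 (-1) * c.x4 (-1)) := by
      have h2 : Commute (c.x3 1) (c.x4 (-1)) := hc
      rw [h2.mul_pow]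
      simp only [pow_succ, pow_zero, one_mul, mul_assoc]
    rw [e1, ← c.x3_add, ← c.x3_add, ← c.x4_add m1 m1, ← c.x4_add (fix_add m1 m1) m1]
    have e2 : (1 : E) + 1 + 1 = 0 := by linear_combination h3
    have e3 : (-1 : E) + -1 + -1 = 0 := by linear_combination -h3
    rw [e2, e3, c.x3_zero, c.x4_zero, one_mul]

theorem ex_ff {s b t e : E} (hs : σ s = s) (ht : σ t = t) (hb : b = 1) (he : e = 1) :
    ∃ s' t', σ s' = s' ∧ σ t' = t' ∧ ff c s b t e = ff c s' 1 t' 1 := ⟨s, t, hs, ht, by rw [hb, he]⟩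

/-- the square of `x1 1 * x6 1 * v`, characteristic two -/
theorem sq_two [CharP E 2] {s b t e : E} (hs : σ s = s) (hb : σ b = b) (ht : σ t = t) (he : σ e = e) :
    ∃ s' t', σ s' = s' ∧ σ t' = t' ∧ (c.x1 1 * c.x6 1 * ff c s b t e) ^ 2 = ff c s' 1 t' 1 := by
  have h1 : σ (1 : E) = 1 := map_one σ
  have h2 : (2 : E) = 0 := CharTwo.two_eq_zero
  have ex1 : c.x1 1 * c.x1 1 = 1 := by
    rw [← c.x1_add, ← c.x1_zero]
    congr 1
    linear_combination h2
  have ex6 : c.x6 1 * c.x6 1 = 1 := by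
    rw [← c.x6_add h1 h1, ← c.x6_zero]
    congr 1
    linear_combination h2
  have e0 : (c.x1 1 * c.x6 1 * ff c s b t e) ^ 2 = c.x1 1 * c.x1 1 * (c.x6 1 * c.x6 1) *
      ((c.x6 1)⁻¹ * kk (c.x6 1) (c.x1 1) * c.x6 1) *
      ((c.x6 1)⁻¹ * ((c.x1 1)⁻¹ * ff c s b t e * c.x1 1) * c.x6 1) * ff c s b t e := by
    generalize ff c s b t e = v
    unfold kk
    rw [pow_two]
    group
  rw [e0, ex1, ex6, one_mul, one_mul, kk61 c h1 h1, ff_conj6 c, ff_conj1 c h1 hs hb ht he, ff_conj6 c, ff_mul c, ff_mul c]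
  · refine ex_ff c ?_ ?_ ?_ ?_
    · simp only [map_add, map_sub, map_mul, map_one, map_ofNat, map_pow, hs, hb, he]
    · simp only [map_add, map_sub, map_mul, map_one, map_ofNat, map_pow, hs, hb, ht, he]
    · linear_combination (b - e - 1) * h2
    · linear_combination e * h2
  all_goals
    simp only [map_add, map_sub, map_mul, map_neg, map_one, map_ofNat, map_pow, hs, hb, ht, he]

theorem reg_pow_four [CharP E 2] {s b t e : E} (hs : σ s = s) (hb : σ b = b) (ht : σ t = t) (he : σ e = e) :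
    (c.x1 1 * c.x6 1 * ff c s b t e) ^ 4 = c.x4 1 := by
  obtain ⟨s', t', hs', ht', h⟩ := sq_two c hs hb ht he
  have h1 : σ (1 : E) = 1 := map_one σ
  have h2 : (2 : E) = 0 := CharTwo.two_eq_zero
  have e0 : (c.x1 1 * c.x6 1 * ff c s b t e) ^ 4 = ((c.x1 1 * c.x6 1 * ff c s b t e) ^ 2) ^ 2 := by
    rw [← pow_mul]
  have s1 : ∀ {s b t e s' b' t' e' : E}, s = s' → b = b' → t = t' → e = e' → ff c s b t e = ff c s' b' t' e' := by
    rintro _ _ _ _ _ _ _ _ rfl rfl rfl rfl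
    rfl
  have e4 : c.x4 1 = ff c 0 0 1 0 := by
    unfold ff
    rw [c.x2_zero, c.x3_zero, c.x5_zero, one_mul, one_mul, mul_one]
  rw [e0, h, pow_two, ff_mul c hs' h1 ht' h1 hs' h1 ht' h1, e4]
  exact s1 (by linear_combination s' * h2) (by linear_combination h2) (by linear_combination (t' - 2) * h2)
    (by linear_combination h2)

theorem orderOf_eight [CharP E 2] {s b t e : E} (hs : σ s = s) (hb : σ b = b) (ht : σ t = t) (he : σ e = e) :
    orderOf (c.x1 1 * c.x6 1 * ff c s b t e) = 8 := by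
  have h1 : σ (1 : E) = 1 := map_one σ
  have h2 : (2 : E) = 0 := CharTwo.two_eq_zero
  have hp : Fact (Nat.Prime 2) := ⟨Nat.prime_two⟩
  have e8 : (8 : ℕ) = 2 ^ (2 + 1) := by norm_num
  rw [e8]
  apply orderOf_eq_prime_pow
  · have e4 : (2 : ℕ) ^ 2 = 4 := by norm_num
    rw [e4, reg_pow_four c hs hb ht he]
    intro h
    rw [← c.x4_zero] at h
    exact one_ne_zero (c.x4_inj h1 (map_zero σ) h)
  · have e4 : (2 : ℕ) ^ (2 + 1) = 4 * 2 := by norm_num
    rw [e4, pow_mul, reg_pow_four c hs hb ht he, pow_two, ← c.x4_add h1 h1, ← c.x4_zero]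
    congr 1
    linear_combination h2

/-- the element occurring for the field automorphisms of order two -/
theorem twist_two [CharP E 2] {a a' : E} (ha : σ a = a) (ha' : σ a' = a') (h : a + a' = 1) :
    ∃ s b t e, σ s = s ∧ σ b = b ∧ σ t = t ∧ σ e = e ∧
      c.x1 a' * c.x6 a' * (c.x1 a * c.x6 a) = c.x1 1 * c.x6 1 * ff c s b t e := by
  have e0 : c.x1 a' * c.x6 a' * (c.x1 a * c.x6 a) = c.x1 a' * c.x1 a * (c.x6 a' * c.x6 a) *
      ((c.x6 a)⁻¹ * kk (c.x6 a') (c.x1 a) * c.x6 a) := by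
    unfold kk
    group
  have h' : a' + a = 1 := by rw [add_comm]; exact h
  have e1 : (c.x6 a)⁻¹ * kk (c.x6 a') (c.x1 a) * c.x6 a =
      ff c (a' * a ^ 3) (-(a' * a ^ 2)) (2 * (a' ^ 2 * a ^ 3) + a' * a ^ 3 * a) (a' * a) := by
    rw [kk61 c ha ha', ff_conj6 c ha]
    all_goals
      simp only [map_mul, map_ofNat, map_pow, ha, ha']
  refine ⟨a' * a ^ 3, -(a' * a ^ 2), 2 * (a' ^ 2 * a ^ 3) + a' * a ^ 3 * a, a' * a, ?_, ?_, ?_, ?_, ?_⟩
  rotate_left 4
  · rw [e0, ← c.x1_add, ← c.x6_add ha' ha, h', e1]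
  all_goals
    simp only [map_add, map_mul, map_neg, map_ofNat, map_pow, ha, ha']

end Cfsg.Agent.H135.TD
end

-- part: H135/TD/Sing
section
set_option autoImplicit false

/-!
# A Singer cycle of `GL(2, q)` and matching elements of the cubic extension (helper135)
-/

namespace Cfsg.Agent.H135.TD

/-- a Singer cycle as a matrix -/
theorem exists_matrix (P : Type*) [Field P] [Finite P] : ∃ M : Matrix (Fin 2) (Fin 2) P,
    orderOf M.det = Nat.card P - 1 ∧ M ^ (Nat.card P ^ 2 - 1) = 1 ∧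
    ∀ (i : ℕ) (v : Fin 2 → P), (M ^ i).mulVec v = v → v = 0 ∨ (Nat.card P ^ 2 - 1) ∣ i := by
  obtain ⟨p, hp⟩ := CharP.exists P
  have hfp : Fact p.Prime := ⟨CharP.char_is_prime P p⟩
  obtain ⟨q, hq⟩ : ∃ q, q = Nat.card P := ⟨_, rfl⟩
  have hq1 : 1 < q := by rw [hq]; exact Finite.one_lt_card
  let Q := FiniteField.Extension P p 2
  have hQ : Nat.card Q = q ^ 2 := by rw [hq]; exact FiniteField.natCard_extension P p 2
  let b : Module.Basis (Fin 2) P Q := Module.finBasisOfFinrankEq P Q (FiniteField.finrank_extension P p 2)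
  obtain ⟨u, hu⟩ := IsCyclic.exists_generator (α := Qˣ)
  have hcu : Nat.card Qˣ = q ^ 2 - 1 := by rw [Nat.card_units, hQ]
  have hu1 : orderOf u = q ^ 2 - 1 := by rw [orderOf_eq_card_of_forall_mem_zpowers hu, hcu]
  have hu2 : orderOf (u : Q) = q ^ 2 - 1 := by rw [orderOf_units, hu1]
  refine ⟨Algebra.leftMulMatrix b (u : Q), ?_, ?_, ?_⟩
  · have h1 : (Algebra.leftMulMatrix b (u : Q)).det = Algebra.norm P (u : Q) :=
      (Algebra.norm_eq_matrix_det b (u : Q)).symm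
    rw [h1]
    have h2 : orderOf (algebraMap P Q (Algebra.norm P (u : Q))) = orderOf (Algebra.norm P (u : Q)) :=
      orderOf_injective (algebraMap P Q : P →* Q) (algebraMap P Q).injective _
    rw [← h2, FiniteField.algebraMap_norm_eq_pow, hQ, ← hq]
    have h3 : q ^ 2 - 1 = (q + 1) * (q - 1) := by
      have h4 : q ^ 2 = (q - 1) * (q + 1) + 1 := by
        obtain ⟨a, rfl⟩ : ∃ a, q = a + 1 := ⟨q - 1, by omega⟩
        simp only [Nat.add_sub_cancel]
        ring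
      rw [h4]
      simp only [Nat.add_sub_cancel]
      ring
    rw [h3, Nat.mul_div_cancel _ (by omega), orderOf_pow' _ (by omega), hu2, h3, Nat.gcd_mul_right_left,
      Nat.mul_div_cancel_left _ (by omega)]
  · rw [← hq, ← map_pow, ← hu2, pow_orderOf_eq_one, map_one]
  · intro i v hv
    by_cases hi : (Nat.card P ^ 2 - 1) ∣ i
    · exact Or.inr hi
    · left
      obtain ⟨y, hy⟩ : ∃ y : Q, b.repr y = Finsupp.equivFunOnFinite.symm v :=
        ⟨b.repr.symm (Finsupp.equivFunOnFinite.symm v), LinearEquiv.apply_symm_apply _ _⟩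
      have hv' : v = b.repr y := by rw [hy]; rfl
      rw [hv', ← map_pow, Algebra.leftMulMatrix_mulVec_repr] at hv
      have h1 : (u : Q) ^ i * y = y := by
        apply b.repr.injective
        exact DFunLike.coe_injective hv
      have h2 : ((u : Q) ^ i - 1) * y = 0 := by rw [sub_mul, h1, one_mul, sub_self]
      rcases mul_eq_zero.1 h2 with h3 | h3
      · exfalso
        apply hi
        rw [← hq, ← hu2]
        exact orderOf_dvd_of_pow_eq_one (sub_eq_zero.1 h3)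
      · rw [hv', h3, map_zero]
        rfl

/-- matching generators -/
theorem exists_match {E : Type*} [Field E] [Finite E] {q : ℕ} (hq : 1 < q) (hE : Nat.card E = q ^ 3) (ν : E)
    (hν : orderOf ν = q - 1) : ∃ s : E, s ≠ 0 ∧ orderOf s = q ^ 3 - 1 ∧ s ^ (q ^ 2 + q + 1) = ν := by
  obtain ⟨u, hu⟩ := IsCyclic.exists_generator (α := Eˣ)
  have hcu : Nat.card Eˣ = q ^ 3 - 1 := by rw [Nat.card_units, hE]
  have hu1 : orderOf u = q ^ 3 - 1 := by rw [orderOf_eq_card_of_forall_mem_zpowers hu, hcu]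
  have h3 : q ^ 3 - 1 = (q ^ 2 + q + 1) * (q - 1) := by
    have h4 : q ^ 3 = (q ^ 2 + q + 1) * (q - 1) + 1 := by
      obtain ⟨a, rfl⟩ : ∃ a, q = a + 1 := ⟨q - 1, by omega⟩
      simp only [Nat.add_sub_cancel]
      ring
    rw [h4]
    simp only [Nat.add_sub_cancel]
  have hν0 : ν ≠ 0 := by
    rintro rfl
    have h5 : (0 : E) ^ (q - 1) = 1 := by rw [← hν, pow_orderOf_eq_one]
    rw [zero_pow (by omega)] at h5
    exact zero_ne_one h5
  obtain ⟨n, hn⟩ : ∃ n : ℕ, u ^ n = Units.mk0 ν hν0 := by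
    have := hu (Units.mk0 ν hν0)
    rw [← mem_powers_iff_mem_zpowers] at this
    exact this
  have hν1 : orderOf (Units.mk0 ν hν0) = q - 1 := by rw [← orderOf_units, Units.val_mk0, hν]
  have h5 : (q ^ 3 - 1) ∣ n * (q - 1) := by
    rw [← hu1]
    apply orderOf_dvd_of_pow_eq_one
    rw [pow_mul, hn, ← hν1, pow_orderOf_eq_one]
  have h6 : (q ^ 2 + q + 1) ∣ n := by
    rw [h3] at h5
    exact Nat.dvd_of_mul_dvd_mul_right (by omega) h5
  obtain ⟨t, ht⟩ := h6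
  obtain ⟨w, hw⟩ : ∃ w : Eˣ, w = u ^ (q ^ 2 + q + 1) := ⟨_, rfl⟩
  have hw1 : orderOf w = q - 1 := by
    rw [hw, orderOf_pow' _ (by omega), hu1, h3, Nat.gcd_mul_right_left, Nat.mul_div_cancel_left _ (by positivity)]
  have hwt : w ^ t = Units.mk0 ν hν0 := by rw [hw, ← pow_mul, ← ht, hn]
  have hcop : Nat.Coprime t (q - 1) := by
    have h7 : orderOf (w ^ t) = q - 1 := by rw [hwt, hν1]
    by_cases ht0 : t = 0
    · subst ht0
      rw [pow_zero, orderOf_one] at h7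
      rw [← h7]
      exact Nat.coprime_one_right 0
    · rw [orderOf_pow' _ ht0, hw1] at h7
      have h8 : Nat.gcd (q - 1) t ∣ q - 1 := Nat.gcd_dvd_left _ _
      obtain ⟨c, hc⟩ := h8
      have h9 : 0 < Nat.gcd (q - 1) t := Nat.gcd_pos_of_pos_left _ (by (clear * - hq hν hν0 hν1 hw1 h7 ht0 hc; omega))
      have h10 : (q - 1) / Nat.gcd (q - 1) t = c :=
        Nat.div_eq_of_eq_mul_right h9 hc
      rw [h10] at h7
      rw [h7] at hc
      have h11 : Nat.gcd (q - 1) t = 1 := by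
        have h12 : Nat.gcd (q - 1) t * (q - 1) = 1 * (q - 1) := by rw [← hc, one_mul]
        exact Nat.eq_of_mul_eq_mul_right (by (clear * - hq; omega)) h12
      rw [Nat.coprime_comm]
      exact h11
  have hne : NeZero (q ^ 3 - 1) := ⟨by
    have : 1 < q ^ 3 := Nat.one_lt_pow (by norm_num) hq
    omega⟩
  have hdvd : (q - 1) ∣ (q ^ 3 - 1) := by rw [h3]; exact Dvd.intro_left _ rfl
  obtain ⟨j, hj⟩ := ZMod.unitsMap_surjective hdvd (ZMod.unitOfCoprime t hcop)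
  have hjc : Nat.Coprime (j : ZMod (q ^ 3 - 1)).val (q ^ 3 - 1) := ZMod.val_coe_unit_coprime j
  have hjt : (j : ZMod (q ^ 3 - 1)).val ≡ t [MOD (q - 1)] := by
    rw [← ZMod.natCast_eq_natCast_iff]
    have h7 := congrArg Units.val hj
    rw [ZMod.unitsMap_val, ZMod.coe_unitOfCoprime] at h7
    rw [← h7, ZMod.natCast_val]
  refine ⟨((u ^ (j : ZMod (q ^ 3 - 1)).val : Eˣ) : E), Units.ne_zero _, ?_, ?_⟩
  · rw [orderOf_units, Nat.Coprime.orderOf_pow (by rw [hu1]; exact hjc.symm), hu1]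
  · rw [← Units.val_pow_eq_pow_val, ← pow_mul, mul_comm, pow_mul, ← hw]
    have h7 : w ^ (j : ZMod (q ^ 3 - 1)).val = w ^ t := pow_eq_pow_iff_modEq.2 (by rw [hw1]; exact hjt)
    rw [h7, hwt, Units.val_mk0]

end Cfsg.Agent.H135.TD
end

-- part: H135/TD/Cross
section
set_option autoImplicit false

/-!
# Representations in cross characteristic (helper135)

If every element of order `(q + 1) (q ^ 3 - 1)` has vanishing norm on the module `V`, then `X 2` acts trivially on `V`.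
-/

namespace Cfsg.Agent.H135.TD

open Cfsg.Agent.SplitTwo Cfsg.Agent.TitsThree.RankTwoZ Cfsg.Agent.Lib.SL2Mat Cfsg.Agent.Cit.HexBase
  Cfsg.Agent.Cit.HexBase.HexGrp
open scoped commutatorElement

variable {p q : ℕ} {E : Type*} [Field E] {σ : E ≃+* E} {L : Type*} [Group L] (c : HexGrp σ L)

/-! ### The group `X 2 X 4` -/

theorem fx_fix (a : ↥(fx σ)) : σ (a : E) = a := a.2

def ee (v : Fin 2 → ↥(fx σ)) : L := c.x2 (v 0) * c.x4 (v 1)

theorem ee_mul (v w : Fin 2 → ↥(fx σ)) : ee c v * ee c w = ee c (v + w) := by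
  unfold ee
  rw [Pi.add_apply, Pi.add_apply]
  push_cast
  rw [c.x2_add (fx_fix _) (fx_fix _), c.x4_add (fx_fix _) (fx_fix _)]
  calc c.x2 (v 0) * c.x4 (v 1) * (c.x2 (w 0) * c.x4 (w 1))
      = c.x2 (v 0) * (c.x4 (v 1) * c.x2 (w 0)) * c.x4 (w 1) := by group
    _ = c.x2 (v 0) * (c.x2 (w 0) * c.x4 (v 1)) * c.x4 (w 1) := by rw [x24' c (fx_fix _) (fx_fix _)]
    _ = _ := by group

theorem ee_zero : ee c 0 = 1 := by
  unfold ee
  rw [Pi.zero_apply, Pi.zero_apply, ZeroMemClass.coe_zero, c.x2_zero, c.x4_zero, one_mul]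

theorem ee_inj {v w : Fin 2 → ↥(fx σ)} (h : ee c v = ee c w) : v = w := by
  have h1 := c.uniq25 (c.mem2 (fx_fix (v 0))) (one_mem (c.X 3)) (c.mem4 (fx_fix (v 1))) (one_mem (c.X 5))
    (c.mem2 (fx_fix (w 0))) (one_mem (c.X 3)) (c.mem4 (fx_fix (w 1))) (one_mem (c.X 5)) (by
      rw [mul_one, mul_one, mul_one, mul_one]; exact h)
  funext i
  fin_cases i
  · exact Subtype.ext (c.x2_inj (fx_fix _) (fx_fix _) h1.1)
  · exact Subtype.ext (c.x4_inj (fx_fix _) (fx_fix _) h1.2.2.1)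

/-- `X 2 X 4` -/
def AA : Subgroup L where
  carrier := Set.range (ee c)
  one_mem' := ⟨0, ee_zero c⟩
  mul_mem' := by
    rintro _ _ ⟨v, rfl⟩ ⟨w, rfl⟩
    exact ⟨v + w, (ee_mul c v w).symm⟩
  inv_mem' := by
    rintro _ ⟨v, rfl⟩
    refine ⟨-v, ?_⟩
    rw [eq_inv_iff_mul_eq_one, ee_mul, neg_add_cancel, ee_zero]

theorem mem_AA {g : L} : g ∈ AA c ↔ ∃ v, ee c v = g := Iff.rfl

theorem AA_comm : ∀ a ∈ AA c, ∀ b ∈ AA c, a * b = b * a := by
  rintro _ ⟨v, rfl⟩ _ ⟨w, rfl⟩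
  rw [ee_mul, ee_mul, add_comm]

theorem X3_comm : ∀ a ∈ c.X 3, ∀ b ∈ c.X 3, a * b = b * a := by
  intro a ha b hb
  obtain ⟨x, rfl⟩ := (c.par.mem3 _).1 ha
  obtain ⟨y, rfl⟩ := (c.par.mem3 _).1 hb
  rw [← c.x3_add, ← c.x3_add, add_comm]

theorem AA_X3 : ∀ a ∈ AA c, ∀ x ∈ c.X 3, a * x = x * a := by
  rintro _ ⟨v, rfl⟩ x hx
  obtain ⟨y, rfl⟩ := (c.par.mem3 _).1 hx
  have h1 := eq_of_kk' (c.par.rel.c23 (v 0) y (fx_fix _))
  have h2 := eq_of_kk' (c.par.rel.c34 y (v 1) (fx_fix _))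
  unfold ee
  rw [mul_assoc, ← h2, ← mul_assoc, h1, mul_assoc]

theorem ee_pow (n : ℕ) (v : Fin 2 → ↥(fx σ)) : ee c v ^ n = ee c (n • v) := by
  induction n with
  | zero => rw [pow_zero, zero_smul, ee_zero]
  | succ n ih => rw [pow_succ, ih, ee_mul, succ_nsmul]

theorem x3_pow (n : ℕ) (a : E) : c.x3 a ^ n = c.x3 (n * a) := by
  induction n with
  | zero => rw [pow_zero, Nat.cast_zero, zero_mul, c.x3_zero]
  | succ n ih => rw [pow_succ, ih, ← c.x3_add, Nat.cast_succ, add_mul, one_mul]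

theorem card_ne {k : Type*} [Field k] (hp : p.Prime) (hpk : (p : k) ≠ 0) {H : Subgroup L} [Fintype H]
    (h : ∀ g ∈ H, g ^ p = 1) : (Fintype.card H : k) ≠ 0 := by
  have hfp : Fact p.Prime := ⟨hp⟩
  have h1 : IsPGroup p H := by
    rintro ⟨g, hg⟩
    exact ⟨1, Subtype.ext (by rw [pow_one]; exact h g hg)⟩
  obtain ⟨n, hn⟩ := IsPGroup.iff_card.1 h1
  rw [← Nat.card_eq_fintype_card, hn, Nat.cast_pow]
  exact pow_ne_zero _ hpk

/-! ### the element -/

theorem act_b3 (hd : Fd p q σ) (s : E) (hs : s ≠ 0) (b : E) :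
    c.pb (dg s hs) * c.x3 b * (c.pb (dg s hs))⁻¹ = c.x3 (s ^ (q ^ 2 + q - 1) * b) := by
  rw [(c.act_b s hs).a3]
  congr 2
  have h0 : nrm σ s ≠ 0 := nrm_ne hs
  have h1 : shp σ (s ^ 2) = (nrm σ s) ^ 2 / s ^ 2 := by
    unfold shp nrm
    rw [map_pow, map_pow]
    field_simp
  have h2 : s ^ (q ^ 2 + q - 1) * s ^ 2 = nrm σ s := by
    rw [hd.nrm_eq, ← pow_add]
    congr 1
    have := hd.one_lt
    omega
  rw [h1, ← h2]
  field_simp

theorem act_b2 (s : E) (hs : s ≠ 0) {t : E} (ht : σ t = t) :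
    c.pb (dg s hs) * c.x2 t * (c.pb (dg s hs))⁻¹ = c.x2 (nrm σ s * t) := by
  rw [(c.act_b s hs).a2 t ht]
  congr 2
  have h0 : nrm σ s ≠ 0 := nrm_ne hs
  rw [pow_two, nrm_mul]
  field_simp

theorem act_b4 (s : E) (hs : s ≠ 0) {t : E} (ht : σ t = t) :
    c.pb (dg s hs) * c.x4 t * (c.pb (dg s hs))⁻¹ = c.x4 t := by
  rw [(c.act_b s hs).a4 t ht]
  congr 1
  have h0 : nrm σ s ≠ 0 := nrm_ne hs
  rw [pow_two s, nrm_mul]
  field_simp

theorem comm03 {x y : L} (hx : x ∈ c.X 0) (hy : y ∈ c.X 3) : x * y = y * x := by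
  have h1 : (c.n1 * c.n6) * x * (c.n1 * c.n6)⁻¹ ∈ c.X 2 := maps_mem c.maps_rot2 hx (by decide)
  have h2 : (c.n1 * c.n6) * y * (c.n1 * c.n6)⁻¹ ∈ c.X 5 := maps_mem c.maps_rot2 hy (by decide)
  have h3 : ((c.n1 * c.n6) * x * (c.n1 * c.n6)⁻¹) * ((c.n1 * c.n6) * y * (c.n1 * c.n6)⁻¹) =
      ((c.n1 * c.n6) * y * (c.n1 * c.n6)⁻¹) * ((c.n1 * c.n6) * x * (c.n1 * c.n6)⁻¹) := by
    obtain ⟨a, ha, ha'⟩ := (c.par.mem2 _).1 h1
    obtain ⟨b, hb'⟩ := (c.par.mem5 _).1 h2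
    rw [← ha', ← hb']
    exact eq_of_kk' (c.par.rel.c25 a b ha)
  generalize c.n1 * c.n6 = n at h3
  calc x * y = n⁻¹ * ((n * x * n⁻¹) * (n * y * n⁻¹)) * n := by group
    _ = n⁻¹ * ((n * y * n⁻¹) * (n * x * n⁻¹)) * n := by rw [h3]
    _ = y * x := by group

theorem pa_comm3 (g : SL2 ↥(fx σ)) {x : L} (hx : x ∈ c.X 3) : c.pa g * x = x * c.pa g := by
  have hup : ∀ u : ↥(fx σ), c.pa (up u) * x = x * c.pa (up u) := by
    intro u
    obtain ⟨a, rfl⟩ := (c.par.mem3 _).1 hx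
    rw [c.pa_up]
    exact (eq_of_kk' (c.par.rel.c36 a u (fx_fix u))).symm
  have hlo : ∀ u : ↥(fx σ), c.pa (lo u) * x = x * c.pa (lo u) := fun u => comm03 c ((c.pa_lo _).2 ⟨u, rfl⟩) hx
  obtain ⟨x1, y1, z1, w1, rfl⟩ := exists_up_lo g
  simp only [map_mul]
  calc c.pa (up x1) * c.pa (lo y1) * c.pa (up z1) * c.pa (lo w1) * x
      = c.pa (up x1) * c.pa (lo y1) * c.pa (up z1) * (c.pa (lo w1) * x) := by group
    _ = c.pa (up x1) * c.pa (lo y1) * (c.pa (up z1) * x) * c.pa (lo w1) := by rw [hlo]; group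
    _ = c.pa (up x1) * (c.pa (lo y1) * x) * c.pa (up z1) * c.pa (lo w1) := by rw [hup]; group
    _ = (c.pa (up x1) * x) * c.pa (lo y1) * c.pa (up z1) * c.pa (lo w1) := by rw [hlo]; group
    _ = _ := by rw [hup]; group

/-- the properties of the element `c₀` -/
structure El (q : ℕ) (c₀ : L) : Prop where
  aa : ∀ a ∈ AA c, c₀ * a * c₀⁻¹ ∈ AA c
  x3 : ∀ a ∈ c.X 3, c₀ * a * c₀⁻¹ ∈ c.X 3
  fa : ∀ i, ¬ (q ^ 2 - 1) ∣ i → ∀ a ∈ AA c, c₀ ^ i * a * (c₀ ^ i)⁻¹ = a → a = 1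
  f3 : ∀ i, ¬ (q ^ 3 - 1) ∣ i → ∀ a ∈ c.X 3, c₀ ^ i * a * (c₀ ^ i)⁻¹ = a → a = 1
  pow : c₀ ^ ((q + 1) * (q ^ 3 - 1)) = 1

theorem sub_sq {q : ℕ} (hq : 1 < q) : q ^ 2 - 1 = (q + 1) * (q - 1) := by
  obtain ⟨a, rfl⟩ : ∃ a, q = a + 1 := ⟨q - 1, by omega⟩
  have : (a + 1) ^ 2 = (a + 1 + 1) * a + 1 := by ring
  rw [this]
  simp only [_root_.add_tsub_cancel_right]

theorem sub_cube {q : ℕ} (hq : 1 < q) : q ^ 3 - 1 = (q ^ 2 + q + 1) * (q - 1) := by
  obtain ⟨a, rfl⟩ : ∃ a, q = a + 1 := ⟨q - 1, by omega⟩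
  have : (a + 1) ^ 3 = ((a + 1) ^ 2 + (a + 1) + 1) * a + 1 := by ring
  rw [this]
  simp only [_root_.add_tsub_cancel_right]

theorem cop1 (q : ℕ) : Nat.Coprime (q + 1) (q ^ 2 + q + 1) := by
  have h : q ^ 2 + q + 1 = 1 + (q + 1) * q := by ring
  rw [h, Nat.coprime_add_mul_left_right]
  exact Nat.coprime_one_right _

theorem cop2 {q : ℕ} (hq : 1 < q) : Nat.Coprime (q ^ 3 - 1) (q ^ 2 + q - 1) := by
  rw [sub_cube hq]
  refine Nat.Coprime.mul_left ?_ ?_
  · have h1 : q ^ 2 + q + 1 = 2 + (q ^ 2 + q - 1) := by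
      have : 1 ≤ q ^ 2 + q := by linarith only [hq, _root_.sq_nonneg (↑q : ℤ)]
      omega
    rw [h1, Nat.coprime_add_self_left]
    rw [Nat.coprime_two_left]
    have h2 : Even (q ^ 2 + q) := by
      have : q ^ 2 + q = q * (q + 1) := by ring
      rw [this]
      exact Nat.even_mul_succ_self q
    obtain ⟨m, hm⟩ := h2
    have : 1 ≤ q ^ 2 + q := by linarith only [hq, _root_.sq_nonneg (↑q : ℤ)]
    exact ⟨m - 1, by omega⟩
  · obtain ⟨a, rfl⟩ : ∃ a, q = a + 1 := ⟨q - 1, by omega⟩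
    have h1 : (a + 1) ^ 2 + (a + 1) - 1 = 1 + a * (a + 3) := by
      have : (a + 1) ^ 2 + (a + 1) = 1 + a * (a + 3) + 1 := by ring
      omega
    rw [h1, Nat.add_sub_cancel, Nat.coprime_add_mul_left_right]
    exact Nat.coprime_one_right _

theorem lcm_dvd {q i : ℕ} (hq : 1 < q) (h2 : (q ^ 2 - 1) ∣ i) (h3 : (q ^ 3 - 1) ∣ i) :
    (q + 1) * (q ^ 3 - 1) ∣ i := by
  obtain ⟨j, rfl⟩ := h3
  rw [sub_sq hq, sub_cube hq, mul_comm (q ^ 2 + q + 1) (q - 1), mul_comm (q + 1) (q - 1), mul_assoc] at h2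
  have h4 := Nat.dvd_of_mul_dvd_mul_left (by omega) h2
  have h5 := (cop1 q).dvd_of_dvd_mul_left h4
  obtain ⟨m, rfl⟩ := h5
  exact ⟨m, by ring⟩

theorem dg_pow {K : Type*} [Field K] (s : K) (hs : s ≠ 0) (n : ℕ) : dg s hs ^ n = dg (s ^ n) (pow_ne_zero n hs) := by
  induction n with
  | zero => apply ext_ent <;> simp
  | succ n ih =>
    rw [pow_succ, ih, dg_mul_dg]
    apply ext_ent <;> simp [pow_succ]

theorem exists_el (hd : Fd p q σ) : ∃ c₀ : L, El c q c₀ := by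
  have hfin := hd.fin
  have hq := hd.one_lt
  have hfinP : Finite ↥(fx σ) := Subtype.finite
  have hP : Nat.card ↥(fx σ) = q := hd.card_fx
  obtain ⟨M, hM1, hM2, hM3⟩ := exists_matrix ↥(fx σ)
  rw [hP] at hM1 hM2 hM3
  have hν : orderOf (M.det : E) = q - 1 := by
    rw [← hM1]
    exact orderOf_injective ((fx σ).subtype : ↥(fx σ) →* E) (fx σ).subtype.injective M.det
  obtain ⟨s, hs, hs1, hs2⟩ := exists_match hq hd.card _ hν
  have hn : nrm σ s = (M.det : E) := by rw [hd.nrm_eq, hs2]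
  have hdet : M.det ≠ 0 := by
    intro h
    have : (M.det : E) = 0 := by rw [h]; rfl
    rw [← hn] at this
    exact nrm_ne hs this
  have hdet' : M.det = M 0 0 * M 1 1 - M 0 1 * M 1 0 := Matrix.det_fin_two M
  obtain ⟨g, hg⟩ : ∃ g : SL2 ↥(fx σ), g = _root_.Cfsg.Agent.Lib.SL2Mat.mk (M 1 1) (-(M 1 0 / M.det)) (-(M 0 1)) (M 0 0 / M.det) (by
    field_simp
    rw [hdet']
    ring) := ⟨_, rfl⟩
  obtain ⟨d, hdd⟩ : ∃ d : L, d = c.pb (dg s hs) := ⟨_, rfl⟩
  obtain ⟨c₀, hc₀⟩ : ∃ c₀ : L, c₀ = c.pa g * d := ⟨_, rfl⟩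
  -- action on `AA`
  have hee : ∀ v : Fin 2 → ↥(fx σ), c₀ * ee c v * c₀⁻¹ = ee c (M.mulVec v) := by
    intro v
    have e1 : d * ee c v * d⁻¹ = c.x2 ((M.det * v 0 : ↥(fx σ)) : E) * c.x4 ((v 1 : ↥(fx σ)) : E) := by
      unfold ee
      have e2 : d * (c.x2 (v 0) * c.x4 (v 1)) * d⁻¹ = (d * c.x2 (v 0) * d⁻¹) * (d * c.x4 (v 1) * d⁻¹) := by group
      rw [e2, hdd, act_b2 c s hs (fx_fix _), act_b4 c s hs (fx_fix _), hn]
      rfl
    have e2 : c₀ * ee c v * c₀⁻¹ = c.pa g * (d * ee c v * d⁻¹) * (c.pa g)⁻¹ := by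
      rw [hc₀, mul_inv_rev]
      group
    rw [e2, e1, pa_act c g (M.det * v 0) (v 1), hg]
    unfold ee
    simp only [mk_00, mk_01, mk_10, mk_11]
    have h0 : M 0 0 / M.det * (M.det * v 0) - -(M 0 1) * v 1 = M.mulVec v 0 := by
      rw [Matrix.mulVec, dotProduct, Fin.sum_univ_two]
      field_simp
      ring
    have h1 : M 1 1 * v 1 - -(M 1 0 / M.det) * (M.det * v 0) = M.mulVec v 1 := by
      rw [Matrix.mulVec, dotProduct, Fin.sum_univ_two]
      field_simp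
      ring
    rw [h0, h1]
  have heei : ∀ (i : ℕ) (v : Fin 2 → ↥(fx σ)), c₀ ^ i * ee c v * (c₀ ^ i)⁻¹ = ee c ((M ^ i).mulVec v) := by
    intro i
    induction i with
    | zero => intro v; simp
    | succ i ih =>
      intro v
      have e : c₀ ^ (i + 1) * ee c v * (c₀ ^ (i + 1))⁻¹ = c₀ ^ i * (c₀ * ee c v * c₀⁻¹) * (c₀ ^ i)⁻¹ := by
        rw [pow_succ, mul_inv_rev]
        group
      rw [e, hee, ih, Matrix.mulVec_mulVec, ← pow_succ]
  -- action on `X 3`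
  have hx3 : ∀ a : E, c₀ * c.x3 a * c₀⁻¹ = c.x3 (s ^ (q ^ 2 + q - 1) * a) := by
    intro a
    have e2 : c₀ * c.x3 a * c₀⁻¹ = c.pa g * (d * c.x3 a * d⁻¹) * (c.pa g)⁻¹ := by
      rw [hc₀, mul_inv_rev]
      group
    rw [e2, hdd, act_b3 c hd, pa_comm3 c g (c.mem3 _), mul_inv_cancel_right]
  have hx3i : ∀ (i : ℕ) (a : E), c₀ ^ i * c.x3 a * (c₀ ^ i)⁻¹ = c.x3 ((s ^ (q ^ 2 + q - 1)) ^ i * a) := by
    intro i
    induction i with
    | zero => intro v; simp only [_root_.pow_zero, _root_.one_mul, _root_.inv_one, _root_.mul_one]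
    | succ i ih =>
      intro v
      have e : c₀ ^ (i + 1) * c.x3 v * (c₀ ^ (i + 1))⁻¹ = c₀ ^ i * (c₀ * c.x3 v * c₀⁻¹) * (c₀ ^ i)⁻¹ := by
        rw [pow_succ, mul_inv_rev]
        group
      rw [e, hx3, ih, ← mul_assoc, ← pow_succ]
  -- powers of `c₀`
  have hact := c.act_b s hs
  have hpw : ∀ i : ℕ, ∃ g' : SL2 ↥(fx σ), c₀ ^ i = c.pa g' * d ^ i := by
    intro i
    induction i with
    | zero => exact ⟨1, by simp⟩
    | succ i ih =>
      obtain ⟨g', hg'⟩ := ih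
      obtain ⟨y, hy⟩ : ∃ y, d * c.pa g' * d⁻¹ = c.pa y := by
        rw [hdd]
        exact ⟨_, HexGrp.Act.pa (c := c) hact g'⟩
      refine ⟨g * y, ?_⟩
      rw [pow_succ', hg', hc₀, map_mul, ← hy, pow_succ']
      group
  have hdi : ∀ i : ℕ, s ^ i = 1 → d ^ i = 1 := by
    intro i hi
    rw [hdd, ← map_pow, dg_pow]
    have : dg (s ^ i) (pow_ne_zero i hs) = 1 := by
      apply ext_ent <;> simp [hi]
    rw [this, map_one]
  refine ⟨c₀, ⟨?_, ?_, ?_, ?_, ?_⟩⟩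
  · rintro _ ⟨v, rfl⟩
    exact ⟨_, (hee v).symm⟩
  · intro a ha
    obtain ⟨x, rfl⟩ := (c.par.mem3 _).1 ha
    rw [hx3]
    exact c.mem3 _
  · rintro i hi _ ⟨v, rfl⟩ h
    rw [heei] at h
    rcases hM3 i v (ee_inj c h) with h1 | h1
    · rw [h1, ee_zero]
    · exact absurd h1 hi
  · intro i hi a ha h
    obtain ⟨x, rfl⟩ := (c.par.mem3 _).1 ha
    rw [hx3i] at h
    have h1 := c.x3_inj h
    have h2 : ((s ^ (q ^ 2 + q - 1)) ^ i - 1) * x = 0 := by rw [sub_mul, h1, one_mul, sub_self]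
    rcases mul_eq_zero.1 h2 with h3 | h3
    · exfalso
      apply hi
      have h4 : s ^ ((q ^ 2 + q - 1) * i) = 1 := by rw [pow_mul]; exact sub_eq_zero.1 h3
      have h5 := orderOf_dvd_of_pow_eq_one h4
      rw [hs1] at h5
      exact (cop2 hq).dvd_of_dvd_mul_left h5
    · rw [h3, c.x3_zero]
  · obtain ⟨g', hg'⟩ := hpw ((q + 1) * (q ^ 3 - 1))
    have h1 : d ^ ((q + 1) * (q ^ 3 - 1)) = 1 := by
      apply hdi
      rw [mul_comm, pow_mul, ← hs1, pow_orderOf_eq_one, one_pow]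
    rw [h1, mul_one] at hg'
    have h2 : M ^ ((q + 1) * (q ^ 3 - 1)) = 1 := by
      have : (q + 1) * (q ^ 3 - 1) = (q ^ 2 - 1) * (q ^ 2 + q + 1) := by
        rw [sub_sq hq, sub_cube hq]
        ring
      rw [this, pow_mul, hM2, one_pow]
    have h3 : ∀ v : Fin 2 → ↥(fx σ), c.pa g' * ee c v * (c.pa g')⁻¹ = ee c v := by
      intro v
      have := heei ((q + 1) * (q ^ 3 - 1)) v
      rw [h2, Matrix.one_mulVec, hg'] at this
      exact this
    have key : ∀ a b : ↥(fx σ), ent g' 1 1 * a - ent g' 1 0 * b = a ∧ ent g' 0 0 * b - ent g' 0 1 * a = b := by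
      intro a b
      have h4 := h3 ![a, b]
      have h5 : ee c ![a, b] = c.x2 a * c.x4 b := rfl
      rw [h5, pa_act c g' a b] at h4
      have h6 : ee c ![ent g' 1 1 * a - ent g' 1 0 * b, ent g' 0 0 * b - ent g' 0 1 * a] = ee c ![a, b] := h4
      have h7 := ee_inj c h6
      exact ⟨congrFun h7 0, congrFun h7 1⟩
    have k1 := key 1 0
    have k2 := key 0 1
    simp only [mul_one, mul_zero, sub_zero, zero_sub, neg_eq_zero] at k1 k2
    have hg1 : g' = 1 := by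
      apply ext_ent
      · rw [ent_one_00]; exact k2.2
      · rw [ent_one_01]; exact k1.2
      · rw [ent_one_10]; exact k2.1
      · rw [ent_one_11]; exact k1.1
    rw [hg', hg1, map_one]

/-! ### the theorem -/

section rep

variable {k V : Type*} [Field k] [AddCommGroup V] [Module k V] (ρ : L →* (V →ₗ[k] V))

theorem fixes_X2 [Finite L] (hd : Fd p q σ) (hpk : (p : k) ≠ 0)
    (hN : ∀ l : L, orderOf l = (q + 1) * (q ^ 3 - 1) → ∀ v : V, ∑ i ∈ Finset.range (orderOf l), ρ (l ^ i) v = 0)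
    {t : E} (ht : σ t = t) (v : V) : ρ (c.x2 t) v = v := by
  have := Fintype.ofFinite ↥(AA c)
  have := Fintype.ofFinite ↥(c.X 3)
  have hq := hd.one_lt
  have hchar := hd.char
  have hcharP := hd.char_fx
  obtain ⟨c₀, hc⟩ := exists_el c hd
  have hℓ : 0 < (q + 1) * (q ^ 3 - 1) := by
    have : 1 < q ^ 3 := Nat.one_lt_pow (by norm_num) hq
    exact Nat.mul_pos (by omega) (by omega)
  have hA0 : (Fintype.card ↥(AA c) : k) ≠ 0 := by
    refine card_ne hd.par.prime hpk ?_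
    rintro _ ⟨v, rfl⟩
    rw [ee_pow]
    have : p • v = 0 := by
      funext i
      rw [Pi.smul_apply, nsmul_eq_mul, CharP.cast_eq_zero, zero_mul]
      rfl
    rw [this, ee_zero]
  have hX0 : (Fintype.card ↥(c.X 3) : k) ≠ 0 := by
    refine card_ne hd.par.prime hpk ?_
    intro x hx
    obtain ⟨y, rfl⟩ := (c.par.mem3 _).1 hx
    rw [x3_pow, CharP.cast_eq_zero, zero_mul, c.x3_zero]
  have hq3 : 1 < q ^ 3 - 1 := by
    have h : 2 ^ 3 ≤ q ^ 3 := Nat.pow_le_pow_left hq 3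
    omega
  have hq2 : 1 < q ^ 2 - 1 := by
    have h : 2 ^ 2 ≤ q ^ 2 := Nat.pow_le_pow_left hq 2
    omega
  have hfree : ∀ i, 0 < i → i < (q + 1) * (q ^ 3 - 1) → (∀ a ∈ AA c, c₀ ^ i * a * (c₀ ^ i)⁻¹ = a → a = 1) ∨
      (∀ x ∈ c.X 3, c₀ ^ i * x * (c₀ ^ i)⁻¹ = x → x = 1) := by
    intro i hi0 hi
    by_cases h2 : (q ^ 2 - 1) ∣ i
    · by_cases h3 : (q ^ 3 - 1) ∣ i
      · have := Nat.le_of_dvd hi0 (lcm_dvd hq h2 h3)
        omega
      · exact Or.inr (hc.f3 i h3)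
    · exact Or.inl (hc.fa i h2)
  have hfA : ∀ a ∈ AA c, c₀ * a * c₀⁻¹ = a → a = 1 := by
    have h := hc.fa 1 (by rw [Nat.dvd_one]; omega)
    rw [pow_one] at h
    exact h
  have hfX : ∀ a ∈ c.X 3, c₀ * a * c₀⁻¹ = a → a = 1 := by
    have h := hc.f3 1 (by rw [Nat.dvd_one]; omega)
    rw [pow_one] at h
    exact h
  have h10 : ee c ![1, 0] ≠ 1 := by
    intro h
    rw [← ee_zero c] at h
    have := congrFun (ee_inj c h) 0
    exact one_ne_zero this
  have h31 : c.x3 1 ≠ 1 := by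
    intro h
    rw [← c.x3_zero] at h
    exact one_ne_zero (c.x3_inj h)
  have hord : ∀ a ∈ AA c, ∀ x ∈ c.X 3, orderOf (a * x * c₀) = (q + 1) * (q ^ 3 - 1) := fun a ha x hx =>
    orderOf_mul_c (AA c) (c.X 3) (AA_comm c) (X3_comm c) (AA_X3 c) c₀ hc.aa hc.x3 _ hℓ hfree hfA hfX
      (mem_AA c |>.2 ⟨_, rfl⟩) h10 (c.mem3 1) h31 hc.pow ha hx
  have hnorm : ∀ a ∈ AA c, ∀ x ∈ c.X 3, ∀ v, ∑ i ∈ Finset.range ((q + 1) * (q ^ 3 - 1)), ρ ((a * x * c₀) ^ i) v = 0 := by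
    intro a ha x hx v
    have h1 := hN (a * x * c₀) (hord a ha x hx) v
    rwa [hord a ha x hx] at h1
  have hker : ∀ v : V, ∑ a : AA c, ρ a v = 0 → ∑ x : c.X 3, ρ x v = 0 → v = 0 := fun v h1 h2 =>
    two_kernel ρ (AA c) (c.X 3) (AA_comm c) (X3_comm c) (AA_X3 c) c₀ hc.aa hc.x3 _ hℓ hfree hnorm hA0 hX0 v h1 h2
  -- `W₀`
  have hW3 : ∀ v : V, ∑ a : AA c, ρ a v = 0 → ∀ x ∈ c.X 3, ρ x v = v := fun v hv x hx =>
    fix_of_two_kernel ρ (AA c) (c.X 3) (AA_X3 c) hX0 hker hv hx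
  -- `X 5` normalises `AA`
  have h5 : ∀ b : E, ∀ a ∈ AA c, c.x5 b * a * (c.x5 b)⁻¹ ∈ AA c := by
    rintro b _ ⟨v, rfl⟩
    have h1 := eq_of_kk' (c.par.rel.c25 (v 0) b (fx_fix _))
    have h2 := eq_of_kk' (c.par.rel.c45 (v 1) b (fx_fix _))
    have h3 : c.x5 b * ee c v = ee c v * c.x5 b := by
      unfold ee
      rw [mul_assoc, h2, ← mul_assoc, ← mul_assoc, h1]
    rw [h3, mul_inv_cancel_right]
    exact ⟨v, rfl⟩
  have hW4 : ∀ v : V, ∑ a : AA c, ρ a v = 0 → ∀ t : E, σ t = t → ρ (c.x4 t) v = v := by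
    intro v hv t ht
    obtain ⟨a, b, hab⟩ := hd.exists_trc_eq ht
    have h1 := c.par.rel.c35 a b
    rw [hab] at h1
    unfold kk at h1
    have hb := sum_conj ρ (h5 b) hv
    have h2 : ρ ((c.x3 a)⁻¹) (ρ ((c.x5 b)⁻¹) (ρ (c.x3 a) (ρ (c.x5 b) v))) = ρ (c.x4 t) v := by
      rw [← h1, map_mul, map_mul, map_mul]
      rfl
    rw [← h2, hW3 _ hb _ (c.mem3 a)]
    have h3 : ρ ((c.x5 b)⁻¹) (ρ (c.x5 b) v) = v := by
      have : ρ ((c.x5 b)⁻¹) (ρ (c.x5 b) v) = ρ ((c.x5 b)⁻¹ * c.x5 b) v := by rw [map_mul]; rfl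
      rw [this, inv_mul_cancel, map_one]
      rfl
    rw [h3]
    exact hW3 v hv _ (inv_mem (c.mem3 a))
  -- `n6` normalises `AA`
  have h6 : ∀ a ∈ AA c, c.n6 * a * (c.n6)⁻¹ ∈ AA c := by
    rintro _ ⟨v, rfl⟩
    exact ⟨![_, _], (pa_act c (wm 1 one_ne_zero) (v 0) (v 1)).symm⟩
  have hW2 : ∀ v : V, ∑ a : AA c, ρ a v = 0 → ∀ t : E, σ t = t → ρ (c.x2 t) v = v := by
    intro v hv t ht
    have h1 := (aux24 c 1 one_ne_zero ht).1
    have h2 : c.x2 t = (c.n6)⁻¹ * c.x4 (-(((1 : ↥(fx σ)) : E) * t)) * c.n6 := by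
      rw [← h1]
      unfold HexGrp.n6
      group
    have hn := sum_conj ρ h6 hv
    have h3 : ρ (c.x2 t) v = ρ ((c.n6)⁻¹) (ρ (c.x4 (-(((1 : ↥(fx σ)) : E) * t))) (ρ c.n6 v)) := by
      rw [h2, map_mul, map_mul]
      rfl
    rw [h3, hW4 _ hn _ (by rw [map_neg, map_mul, ht]; congr 1; rw [show σ ((1 : ↥(fx σ)) : E) = ((1 : ↥(fx σ)) : E) from fx_fix 1])]
    have : ρ ((c.n6)⁻¹) (ρ (c.n6) v) = ρ ((c.n6)⁻¹ * c.n6) v := by rw [map_mul]; rfl
    rw [this, inv_mul_cancel, map_one]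
    rfl
  have hWA : ∀ v : V, ∑ a : AA c, ρ a v = 0 → ∀ a ∈ AA c, ρ a v = v := by
    rintro v hv _ ⟨w, rfl⟩
    unfold ee
    rw [map_mul]
    change ρ (c.x2 (w 0)) (ρ (c.x4 (w 1)) v) = v
    rw [hW4 v hv _ (fx_fix _), hW2 v hv _ (fx_fix _)]
  have hW0 : ∀ v : V, ∑ a : AA c, ρ a v = 0 → v = 0 := by
    intro v hv
    have h1 : ∑ a : AA c, ρ a v = (Fintype.card ↥(AA c) : k) • v := by
      rw [Finset.sum_congr rfl fun (a : AA c) _ => hWA v hv a a.2, Finset.sum_const, Finset.card_univ,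
        Nat.cast_smul_eq_nsmul]
    rw [hv] at h1
    exact (smul_eq_zero.1 h1.symm).resolve_left hA0
  -- `AA` acts trivially
  have hfix : ∀ y ∈ AA c, ρ y (∑ a : AA c, ρ a v) = ∑ a : AA c, ρ a v := by
    intro y hy
    rw [map_sum]
    have h2 := Equiv.sum_comp (Equiv.mulLeft (⟨y, hy⟩ : AA c)) (fun x : AA c => ρ x v)
    rw [← h2]
    refine Finset.sum_congr rfl fun x _ => ?_
    rw [Equiv.coe_mulLeft, Subgroup.coe_mul, map_mul]
    rfl
  have hv0 : v - (Fintype.card ↥(AA c) : k)⁻¹ • ∑ a : AA c, ρ a v = 0 := by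
    apply hW0
    have h2 : ∑ y : AA c, ρ y (∑ a : AA c, ρ a v) = (Fintype.card ↥(AA c) : k) • ∑ a : AA c, ρ a v := by
      rw [Finset.sum_congr rfl fun (y : AA c) _ => hfix y y.2, Finset.sum_const, Finset.card_univ,
        Nat.cast_smul_eq_nsmul]
    simp only [map_sub, map_smul, Finset.sum_sub_distrib]
    rw [← Finset.smul_sum, h2, smul_smul, inv_mul_cancel₀ hA0, one_smul, sub_self]
  have hv1 := sub_eq_zero.1 hv0
  rw [hv1, map_smul, hfix _ ⟨![⟨t, ht⟩, 0], ?_⟩]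
  change c.x2 t * c.x4 ((0 : ↥(fx σ)) : E) = c.x2 t
  rw [ZeroMemClass.coe_zero, c.x4_zero, mul_one]

end rep

end Cfsg.Agent.H135.TD
end

-- part: H135/TD/Nons
section
set_option autoImplicit false

/-!
# Elements of order `q + 1` of `SL(2, q)` (helper135)
-/

namespace Cfsg.Agent.H135.TD

open Cfsg.Agent.Lib.SL2Mat

/-- companion matrix -/
def cmp {P : Type*} [Field P] (τ : P) : Matrix.SpecialLinearGroup (Fin 2) P := mk 0 (-1) 1 τ (by ring)

theorem exists_cmp (P : Type*) [Field P] [Finite P] : ∃ τ : P, orderOf (cmp τ) = Nat.card P + 1 := by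
  obtain ⟨p, hp⟩ := CharP.exists P
  have hfp : Fact p.Prime := ⟨CharP.char_is_prime P p⟩
  obtain ⟨q, hq⟩ : ∃ q, q = Nat.card P := ⟨_, rfl⟩
  have hq1 : 1 < q := by rw [hq]; exact Finite.one_lt_card
  let Q := FiniteField.Extension P p 2
  have hQ : Nat.card Q = q ^ 2 := by rw [hq]; exact FiniteField.natCard_extension P p 2
  obtain ⟨u, hu⟩ := IsCyclic.exists_generator (α := Qˣ)
  have hcu : Nat.card Qˣ = q ^ 2 - 1 := by rw [Nat.card_units, hQ]
  have hu1 : orderOf u = q ^ 2 - 1 := by rw [orderOf_eq_card_of_forall_mem_zpowers hu, hcu]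
  have h3 : q ^ 2 - 1 = (q - 1) * (q + 1) := by
    obtain ⟨a, rfl⟩ : ∃ a, q = a + 1 := ⟨q - 1, by omega⟩
    have : (a + 1) ^ 2 = a * (a + 1 + 1) + 1 := by ring
    rw [this]
    simp only [_root_.add_tsub_cancel_right]
  obtain ⟨z, hz⟩ : ∃ z : Q, z = ((u ^ (q - 1) : Qˣ) : Q) := ⟨_, rfl⟩
  have hz1 : orderOf z = q + 1 := by
    rw [hz, orderOf_units, orderOf_pow' _ (by omega), hu1, h3, Nat.gcd_mul_right_left,
      Nat.mul_div_cancel_left _ (by omega)]
  have hz0 : z ≠ 0 := by rw [hz]; exact Units.ne_zero _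
  obtain ⟨τ, hτ⟩ : ∃ τ : P, algebraMap P Q τ = z + z ^ q := by
    refine ⟨Algebra.trace P Q z, ?_⟩
    rw [FiniteField.algebraMap_trace_eq_sum_pow, FiniteField.finrank_extension, Finset.sum_range_succ,
      Finset.sum_range_one, pow_zero, pow_one, pow_one, hq]
  have hzq : z * z ^ q = 1 := by rw [← pow_succ', ← hz1, pow_orderOf_eq_one]
  have hτz : z * algebraMap P Q τ = z ^ 2 + 1 := by rw [hτ, mul_add, hzq, pow_two]
  -- `z` is not in `P`
  have hzP : ∀ a : P, algebraMap P Q a ≠ z := by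
    intro a ha
    have ha0 : a ≠ 0 := by
      rintro rfl
      rw [map_zero] at ha
      exact hz0 ha.symm
    have := Fintype.ofFinite P
    have h4 : z ^ (q - 1) = 1 := by
      rw [← ha, ← map_pow, hq, Nat.card_eq_fintype_card, FiniteField.pow_card_sub_one_eq_one a ha0, map_one]
    have h5 := orderOf_dvd_of_pow_eq_one h4
    rw [hz1] at h5
    have := Nat.le_of_dvd (by omega) h5
    omega
  have hlin : ∀ a b : P, algebraMap P Q a + z * algebraMap P Q b = 0 → a = 0 ∧ b = 0 := by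
    intro a b h
    have hb : b = 0 := by
      by_contra hb
      apply hzP (-(a / b))
      have hb' : algebraMap P Q b ≠ 0 := fun h' => hb ((map_eq_zero _).1 h')
      rw [map_neg, map_div₀, ← neg_div, div_eq_iff hb']
      linear_combination -h
    subst hb
    rw [map_zero, mul_zero, add_zero] at h
    exact ⟨(map_eq_zero _).1 h, rfl⟩
  -- the row vector `(1, z)`
  have key : ∀ m : ℕ, algebraMap P Q (ent (cmp τ ^ m) 0 0) + z * algebraMap P Q (ent (cmp τ ^ m) 1 0) = z ^ m ∧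
      algebraMap P Q (ent (cmp τ ^ m) 0 1) + z * algebraMap P Q (ent (cmp τ ^ m) 1 1) = z ^ m * z := by
    intro m
    induction m with
    | zero => simp
    | succ m ih =>
      obtain ⟨h1, h2⟩ := ih
      rw [pow_succ]
      simp only [ent_mul]
      have e00 : ent (cmp τ) 0 0 = 0 := rfl
      have e01 : ent (cmp τ) 0 1 = -1 := rfl
      have e10 : ent (cmp τ) 1 0 = 1 := rfl
      have e11 : ent (cmp τ) 1 1 = τ := rfl
      rw [e00, e01, e10, e11]
      simp only [mul_zero, mul_one, zero_add, mul_neg, map_add, map_neg, map_mul]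
      constructor
      · rw [h2, pow_succ]
      · linear_combination (-1 : Q) * h1 + algebraMap P Q τ * h2 + z ^ m * hτz
  refine ⟨τ, ?_⟩
  rw [← hq, ← hz1]
  apply Nat.dvd_antisymm
  · apply orderOf_dvd_of_pow_eq_one
    obtain ⟨h1, h2⟩ := key (orderOf z)
    rw [pow_orderOf_eq_one] at h1 h2
    rw [one_mul] at h2
    have k1 := hlin (ent (cmp τ ^ orderOf z) 0 0 - 1) (ent (cmp τ ^ orderOf z) 1 0) (by
      rw [map_sub, map_one]
      linear_combination h1)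
    have k2 := hlin (ent (cmp τ ^ orderOf z) 0 1) (ent (cmp τ ^ orderOf z) 1 1 - 1) (by
      rw [map_sub, map_one]
      linear_combination h2)
    apply ext_ent
    · rw [ent_one_00]; exact sub_eq_zero.1 k1.1
    · rw [ent_one_01]; exact k2.1
    · rw [ent_one_10]; exact k1.2
    · rw [ent_one_11]; exact sub_eq_zero.1 k2.2
  · apply orderOf_dvd_of_pow_eq_one
    obtain ⟨h1, -⟩ := key (orderOf (cmp τ))
    rw [pow_orderOf_eq_one] at h1
    rw [← h1]
    simp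

/-- in characteristic two the companion matrix is conjugate to an element inverted by `up 1` -/
theorem cmp_inv {P : Type*} [Field P] [CharP P 2] (τ : P) :
    up 1 * (lo 1 * cmp τ * (lo 1)⁻¹) * (up 1)⁻¹ = (lo 1 * cmp τ * (lo 1)⁻¹)⁻¹ := by
  have h2 : (2 : P) = 0 := CharTwo.two_eq_zero
  have e00 : ent (cmp τ) 0 0 = 0 := rfl
  have e01 : ent (cmp τ) 0 1 = -1 := rfl
  have e10 : ent (cmp τ) 1 0 = 1 := rfl
  have e11 : ent (cmp τ) 1 1 = τ := rfl
  have h : up 1 * (lo 1 * cmp τ * (lo 1)⁻¹) * (up 1)⁻¹ * (lo 1 * cmp τ * (lo 1)⁻¹) = 1 := by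
    rw [up_inv, lo_inv]
    apply ext_ent <;> simp only [ent_mul, up_00, up_01, up_10, up_11, lo_00, lo_01, lo_10, lo_11, e00, e01, e10, e11,
      ent_one_00, ent_one_01, ent_one_10, ent_one_11]
    · linear_combination (-(τ ^ 2) + 4 * τ - 4 : P) * h2
    · linear_combination (τ ^ 2 - 3 * τ + 1 : P) * h2
    · linear_combination (-τ ^ 2 + 3 * τ - 2 : P) * h2
    · linear_combination (τ ^ 2 - 2 * τ : P) * h2
  exact eq_inv_of_mul_eq_one_left h

end Cfsg.Agent.H135.TD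
end

-- part: H135/TD/Num
section
set_option autoImplicit false

/-!
# Numerical facts on the element orders of `³D₄(q)` (helper135)
-/

namespace Cfsg.Agent.H135.TD

/-! ### factorisations -/

theorem mm_eq (q : ℕ) : mm q + q ^ 2 = q ^ 4 + 1 := by
  unfold mm
  have : q ^ 2 ≤ q ^ 4 := by
    rcases Nat.eq_zero_or_pos q with rfl | h
    · simp
    · exact Nat.pow_le_pow_right h (by norm_num)
  omega

theorem mm_mul (q : ℕ) : mm q * (q ^ 2 + 1) = q ^ 6 + 1 := by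
  have h := mm_eq q
  have h1 : (mm q + q ^ 2) * (q ^ 2 + 1) = (q ^ 4 + 1) * (q ^ 2 + 1) := by rw [h]
  have h2 : (mm q + q ^ 2) * (q ^ 2 + 1) = mm q * (q ^ 2 + 1) + q ^ 2 * (q ^ 2 + 1) := by ring
  have h3 : (q ^ 4 + 1) * (q ^ 2 + 1) = (q ^ 6 + 1) + q ^ 2 * (q ^ 2 + 1) := by ring
  omega

theorem mm_odd (q : ℕ) : ¬ 2 ∣ mm q := by
  intro h
  have h1 := mm_eq q
  have h2 : 2 ∣ q ^ 4 + q ^ 2 := by
    have : q ^ 4 + q ^ 2 = q * (q + 1) * (q ^ 2 - q + 2) - 2 * q := by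
      rcases Nat.eq_zero_or_pos q with rfl | h
      · simp
      · obtain ⟨a, rfl⟩ : ∃ a, q = a + 1 := ⟨q - 1, by omega⟩
        have e1 : (a + 1) ^ 2 - (a + 1) = a * (a + 1) := by
          have : (a + 1) ^ 2 = a * (a + 1) + (a + 1) := by ring
          omega
        rw [e1]
        have e2 : (a + 1) * (a + 1 + 1) * (a * (a + 1) + 2) = (a + 1) ^ 4 + (a + 1) ^ 2 + 2 * (a + 1) := by ring
        (clear * - e2; omega)
    rw [this]
    refine Nat.dvd_sub ?_ (Dvd.intro _ rfl)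
    exact Dvd.dvd.mul_right (Nat.even_mul_succ_self q).two_dvd _
  omega

section

variable {p q : ℕ}

theorem sq_sub (hq : 1 ≤ q) : q ^ 2 - q + 1 + q = q ^ 2 + 1 := by
  have : q ≤ q ^ 2 := by nlinarith
  omega

theorem cube_sub (hq : 1 ≤ q) : q ^ 3 - 1 = (q ^ 2 + q + 1) * (q - 1) := by
  obtain ⟨a, rfl⟩ : ∃ a, q = a + 1 := ⟨q - 1, by omega⟩
  have : (a + 1) ^ 3 = ((a + 1) ^ 2 + (a + 1) + 1) * a + 1 := by ring
  rw [this]
  simp only [_root_.add_tsub_cancel_right]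

theorem cube_add (hq : 1 ≤ q) : q ^ 3 + 1 = (q ^ 2 - q + 1) * (q + 1) := by
  have h := sq_sub hq
  have h1 : (q ^ 2 - q + 1 + q) * (q + 1) = (q ^ 2 + 1) * (q + 1) := by rw [h]
  have h2 : (q ^ 2 - q + 1 + q) * (q + 1) = (q ^ 2 - q + 1) * (q + 1) + q * (q + 1) := by ring
  have h3 : (q ^ 2 + 1) * (q + 1) = q ^ 3 + 1 + q * (q + 1) := by ring
  omega

/-- a prime divisor of `mm q` is odd, and divides neither `q` nor `q ^ 3 - 1` nor `q ^ 3 + 1` -/
theorem prime_mm (hq : 1 ≤ q) {r : ℕ} (hr : r.Prime) (h : r ∣ mm q) :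
    r ≠ 2 ∧ ¬ r ∣ q ∧ ¬ r ∣ q ^ 3 - 1 ∧ ¬ r ∣ q ^ 3 + 1 := by
  have h2 : r ≠ 2 := by
    rintro rfl
    exact mm_odd q h
  have h6 : r ∣ q ^ 6 + 1 := by
    rw [← mm_mul]
    exact Dvd.dvd.mul_right h _
  have hno2 : ¬ r ∣ 2 := fun h => h2 ((Nat.prime_dvd_prime_iff_eq hr Nat.prime_two).1 h)
  refine ⟨h2, ?_, ?_, ?_⟩
  · intro hrq
    have h1 : r ∣ q ^ 6 := Dvd.dvd.pow hrq (by norm_num)
    have h3 := (Nat.dvd_add_right h1).1 h6
    exact hr.one_lt.ne' (Nat.dvd_one.1 h3)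
  · intro h3
    have h4 : r ∣ q ^ 6 - 1 := by
      have e : q ^ 6 - 1 = (q ^ 3 - 1) * (q ^ 3 + 1) := by
        obtain ⟨b, hb⟩ : ∃ b, q ^ 3 = b + 1 := ⟨q ^ 3 - 1, by have := Nat.one_le_pow 3 q hq; omega⟩
        have : q ^ 6 = (q ^ 3) ^ 2 := by ring
        rw [this, hb]
        have : (b + 1) ^ 2 = b * (b + 1 + 1) + 1 := by ring
        rw [this]
        simp only [_root_.add_tsub_cancel_right]
      rw [e]
      exact Dvd.dvd.mul_right h3 _
    have h5 := Nat.dvd_sub h6 h4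
    have h7 := Nat.one_le_pow 6 q hq
    have h8 : q ^ 6 + 1 - (q ^ 6 - 1) = 2 := by omega
    rw [h8] at h5
    exact hno2 h5
  · intro h3
    have h4 : r ∣ q ^ 6 - 1 := by
      have e : q ^ 6 - 1 = (q ^ 3 - 1) * (q ^ 3 + 1) := by
        obtain ⟨b, hb⟩ : ∃ b, q ^ 3 = b + 1 := ⟨q ^ 3 - 1, by have := Nat.one_le_pow 3 q hq; omega⟩
        have : q ^ 6 = (q ^ 3) ^ 2 := by ring
        rw [this, hb]
        have : (b + 1) ^ 2 = b * (b + 1 + 1) + 1 := by ring
        rw [this]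
        simp only [_root_.add_tsub_cancel_right]
      rw [e]
      exact Dvd.dvd.mul_left h3 _
    have h5 := Nat.dvd_sub h6 h4
    have h7 := Nat.one_le_pow 6 q hq
    have h8 : q ^ 6 + 1 - (q ^ 6 - 1) = 2 := by omega
    rw [h8] at h5
    exact hno2 h5

/-- **the prime divisors of `mm q` are isolated** -/
theorem Om.mm_of_prime (hP : Par p q) {n : ℕ} (h : Om p q n) {r : ℕ} (hr : r.Prime) (hrm : r ∣ mm q) (hrn : r ∣ n) :
    n ∣ mm q := by
  have hq : 1 ≤ q := by have := hP.hq; omega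
  obtain ⟨h2, h0, hm, hp⟩ := prime_mm hq hr hrm
  have hm1 : ¬ r ∣ q - 1 := fun h => hm (by rw [cube_sub hq]; exact Dvd.dvd.mul_left h _)
  have hm2 : ¬ r ∣ q ^ 2 + q + 1 := fun h => hm (by rw [cube_sub hq]; exact Dvd.dvd.mul_right h _)
  have hp1 : ¬ r ∣ q + 1 := fun h => hp (by rw [cube_add hq]; exact Dvd.dvd.mul_left h _)
  have hp2 : ¬ r ∣ q ^ 2 - q + 1 := fun h => hp (by rw [cube_add hq]; exact Dvd.dvd.mul_right h _)
  have hpp := hP.p_dvd
  have n2 : p = 2 → ∀ k, ¬ r ∣ 2 ^ k := by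
    rintro rfl k hk
    exact h2 ((Nat.prime_dvd_prime_iff_eq hr Nat.prime_two).1 (hr.dvd_of_dvd_pow hk))
  have n3 : p = 3 → ∀ k, ¬ r ∣ 3 ^ k := by
    rintro rfl k hk
    have := (Nat.prime_dvd_prime_iff_eq hr Nat.prime_three).1 (hr.dvd_of_dvd_pow hk)
    exact h0 (this ▸ hpp)
  rcases h with h | h | h | ⟨hp', h | h | h | h | h⟩ | ⟨hp', h | h | h⟩
  · exact h
  · exfalso
    rcases (hr.dvd_mul).1 (hrn.trans h) with h | h
    · exact hm h
    · exact hp1 h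
  · exfalso
    rcases (hr.dvd_mul).1 (hrn.trans h) with h | h
    · exact hp h
    · exact hm1 h
  · exact absurd (hrn.trans h) (n2 hp' 3)
  · exfalso
    rcases (hr.dvd_mul).1 (hrn.trans h) with h | h
    · exact n2 hp' 2 h
    · exact hm2 h
  · exfalso
    rcases (hr.dvd_mul).1 (hrn.trans h) with h | h
    · exact n2 hp' 2 h
    · exact hp2 h
  · exfalso
    rcases (hr.dvd_mul).1 (hrn.trans h) with h | h
    · exact n2 hp' 1 h
    · exact hm h
  · exfalso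
    rcases (hr.dvd_mul).1 (hrn.trans h) with h | h
    · exact n2 hp' 1 h
    · exact hp h
  · exact absurd (hrn.trans h) (n3 hp' 2)
  · exfalso
    rcases (hr.dvd_mul).1 (hrn.trans h) with h | h
    · exact n3 hp' 1 h
    · exact hm h
  · exfalso
    rcases (hr.dvd_mul).1 (hrn.trans h) with h | h
    · exact n3 hp' 1 h
    · exact hp h

/-- the product of a prime divisor of `mm q` and any prime not dividing `mm q` is not an element order -/
theorem not_om_mul (hP : Par p q) {r s : ℕ} (hr : r.Prime) (hrm : r ∣ mm q) (hs : ¬ s ∣ mm q) :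
    ¬ Om p q (r * s) := fun h => hs ((Dvd.intro_left _ rfl).trans (h.mm_of_prime hP hr hrm (Dvd.intro _ rfl)))

theorem mm_ne_one (hP : Par p q) : mm q ≠ 1 := by
  obtain ⟨a, rfl⟩ := hP.exists_add
  rw [mm_add]
  have : 0 < (a + 3) ^ 2 * ((a + 2) * (a + 4)) := by positivity
  omega

theorem exists_prime_mm (hP : Par p q) : ∃ r, r.Prime ∧ r ∣ mm q := Nat.exists_prime_and_dvd (mm_ne_one hP)

/-- the largest element order -/
theorem Om.le (hP : Par p q) {n : ℕ} (h : Om p q n) : n ≤ (q + 1) * (q ^ 3 - 1) := by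
  have h4 := hP.cases
  obtain ⟨a, rfl⟩ := hP.exists_add
  have e1 : (a + 3) ^ 3 - 1 = a ^ 3 + 9 * a ^ 2 + 27 * a + 26 := by
    have : (a + 3) ^ 3 = a ^ 3 + 9 * a ^ 2 + 27 * a + 26 + 1 := by ring
    omega
  have e2 : (a + 3) ^ 2 - (a + 3) + 1 = a ^ 2 + 5 * a + 7 := by
    have : (a + 3) ^ 2 = a ^ 2 + 5 * a + 6 + (a + 3) := by ring
    omega
  have e3 : a + 3 - 1 = a + 2 := by omega
  have key : ∀ N, N ≤ (a + 3 + 1) * ((a + 3) ^ 3 - 1) → N ≠ 0 → n ∣ N → n ≤ (a + 3 + 1) * ((a + 3) ^ 3 - 1) :=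
    fun N h1 h0 h2 => (Nat.le_of_dvd (Nat.pos_of_ne_zero h0) h2).trans h1
  rcases h with h | h | h | ⟨hp', h⟩ | ⟨hp', h | h | h⟩
  · refine key _ ?_ ?_ h
    · rw [mm_add, e1]
      linarith only [e1, _root_.sq_nonneg (↑a : ℤ), _root_.Nat.cast_nonneg (α := ℤ) ((a + 3) ^ 3 - 1), _root_.Nat.cast_nonneg (α := ℤ) (a)]
    · rw [mm_add]; (clear * -; positivity)
  · refine key _ ?_ ?_ h
    · rw [mul_comm]
    · rw [e1]; (clear * -; positivity)
  · refine key _ ?_ ?_ h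
    · rw [e1, e3]
      linarith only [pow_nonneg (Nat.zero_le a) 3, _root_.sq_nonneg (↑a : ℤ), _root_.Nat.cast_nonneg (α := ℤ) (a)]
    · rw [e3]; positivity
  · have ha : 1 ≤ a := by
      rcases h4 with ⟨-, -, h5⟩ | ⟨h5, -⟩
      · omega
      · omega
    obtain ⟨b, rfl⟩ : ∃ b, a = b + 1 := ⟨a - 1, by omega⟩
    rcases h with h | h | h | h | h
    · refine key _ ?_ (by norm_num) h
      rw [e1]
      linarith only [pow_nonneg (Nat.zero_le b) 3, pow_nonneg (Nat.zero_le b) 4, _root_.sq_nonneg (↑b : ℤ), _root_.Nat.cast_nonneg (α := ℤ) (b)]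
    · refine key _ ?_ (by positivity) h
      rw [e1]
      linarith only [pow_nonneg (Nat.zero_le b) 3, pow_nonneg (Nat.zero_le b) 4, _root_.sq_nonneg (↑b : ℤ), _root_.Nat.cast_nonneg (α := ℤ) (b)]
    · refine key _ ?_ (by (clear * -; positivity)) h
      rw [e1, e2]
      linarith only [pow_nonneg (Nat.zero_le b) 3, pow_nonneg (Nat.zero_le b) 4, _root_.sq_nonneg (↑b : ℤ), _root_.Nat.cast_nonneg (α := ℤ) (b)]
    · refine key _ ?_ ?_ h
      · exact Nat.mul_le_mul_right _ (by omega)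
      · rw [e1]; (clear * -; positivity)
    · refine key _ ?_ (by positivity) h
      rw [e1]
      linarith only [pow_nonneg (Nat.zero_le b) 3, pow_nonneg (Nat.zero_le b) 4, _root_.sq_nonneg (↑b : ℤ), _root_.Nat.cast_nonneg (α := ℤ) (b)]
  · refine key _ ?_ (by norm_num) h
    rw [e1]
    linarith only [pow_nonneg (Nat.zero_le a) 3, pow_nonneg (Nat.zero_le a) 4, _root_.sq_nonneg (↑a : ℤ), _root_.Nat.cast_nonneg (α := ℤ) (a)]
  · refine key _ ?_ ?_ h
    · exact Nat.mul_le_mul_right _ (by omega)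
    · rw [e1]; (clear * -; positivity)
  · refine key _ ?_ (by positivity) h
    rw [e1]
    linarith only [pow_nonneg (Nat.zero_le a) 3, pow_nonneg (Nat.zero_le a) 4, _root_.sq_nonneg (↑a : ℤ), _root_.Nat.cast_nonneg (α := ℤ) (a)]

theorem max_pos (hP : Par p q) : 0 < (q + 1) * (q ^ 3 - 1) := by
  have hq := hP.hq
  have : 1 < q ^ 3 := Nat.one_lt_pow (by norm_num) (by omega)
  exact Nat.mul_pos (by omega) (by omega)

theorem not_om_max (hP : Par p q) {r : ℕ} (hr : 2 ≤ r) : ¬ Om p q (r * ((q + 1) * (q ^ 3 - 1))) := by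
  intro h
  have h1 := h.le hP
  have h2 := max_pos hP
  nlinarith

/-! ### characteristic two -/

theorem q_even (hP : Par 2 q) : 4 ∣ q := by
  rcases hP.cases with ⟨-, h, -⟩ | ⟨h, -⟩
  · exact h
  · omega

theorem odd_of (hP : Par 2 q) : ¬ 2 ∣ mm q ∧ ¬ 2 ∣ (q ^ 3 - 1) ∧ ¬ 2 ∣ (q ^ 3 + 1) ∧ ¬ 2 ∣ (q + 1) ∧ ¬ 2 ∣ (q - 1) ∧
    ¬ 2 ∣ (q ^ 2 + q + 1) ∧ ¬ 2 ∣ (q ^ 2 - q + 1) := by
  obtain ⟨m, rfl⟩ := q_even hP
  have hq := hP.hq
  have hm : 1 ≤ m := by omega
  have h1 : (4 * m) ^ 3 = 2 * (32 * m ^ 3) := by ring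
  have h2 : (4 * m) ^ 2 = 2 * (8 * m ^ 2) := by ring
  have h3 : 1 ≤ m ^ 3 := Nat.one_le_pow _ _ hm
  have h4 : m ≤ m ^ 2 := by nlinarith only []
  refine ⟨mm_odd _, ?_, ?_, ?_, ?_, ?_, ?_⟩
  · rw [h1]; omega
  · rw [h1]; omega
  · omega
  · omega
  · rw [h2]; omega
  · rw [h2]; omega

theorem Om.two_eight (hP : Par 2 q) {n : ℕ} (h : Om 2 q n) (h8 : 8 ∣ n) : n ∣ 8 := by
  obtain ⟨o1, o2, o3, o4, o5, o6, o7⟩ := odd_of hP
  have h28 : 2 ∣ n := (by norm_num : 2 ∣ 8).trans h8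
  have k1 : ∀ N, ¬ 2 ∣ N → ¬ n ∣ N := fun N hN hn => hN (h28.trans hn)
  have k2 : ∀ N, ¬ 2 ∣ N → ¬ n ∣ 2 * N := by
    intro N hN hn
    have h1 : 2 * 2 ∣ 2 * N := (by norm_num : 2 * 2 ∣ 8).trans (h8.trans hn)
    exact hN (Nat.dvd_of_mul_dvd_mul_left (by norm_num) h1)
  have k4 : ∀ N, ¬ 2 ∣ N → ¬ n ∣ 4 * N := by
    intro N hN hn
    have h1 : 4 * 2 ∣ 4 * N := (by norm_num : 4 * 2 ∣ 8).trans (h8.trans hn)
    exact hN (Nat.dvd_of_mul_dvd_mul_left (by norm_num) h1)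
  have od : ∀ a b, ¬ 2 ∣ a → ¬ 2 ∣ b → ¬ 2 ∣ a * b := fun a b ha hb h => ((Nat.prime_two.dvd_mul).1 h).elim ha hb
  rcases h with h | h | h | ⟨-, h | h | h | h | h⟩ | ⟨hp', h⟩
  · exact absurd h (k1 _ o1)
  · exact absurd h (k1 _ (od _ _ o2 o4))
  · exact absurd h (k1 _ (od _ _ o3 o5))
  · exact h
  · exact absurd h (k4 _ o6)
  · exact absurd h (k4 _ o7)
  · exact absurd h (k2 _ o2)
  · exact absurd h (k2 _ o3)
  · omega

theorem not_om_sixteen (hP : Par 2 q) : ¬ Om 2 q (2 * 8) := fun h => by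
  have := h.two_eight hP (by norm_num)
  norm_num at this

/-- `4 (q + 1)` is not an element order -/
theorem not_om_four (hP : Par 2 q) : ¬ Om 2 q (2 * (2 * (q + 1))) := by
  obtain ⟨o1, o2, o3, o4, o5, o6, o7⟩ := odd_of hP
  have hq := hP.hq
  have h4 := q_even hP
  have hge : 4 ≤ q := Nat.le_of_dvd (by omega) h4
  have e : 2 * (2 * (q + 1)) = 4 * (q + 1) := by ring
  rw [e]
  have k1 : ∀ N, ¬ 2 ∣ N → ¬ 4 * (q + 1) ∣ N := fun N hN hn =>
    hN (((by norm_num : 2 ∣ 4).trans (Dvd.intro _ rfl)).trans hn)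
  have k2 : ∀ N, ¬ 2 ∣ N → ¬ 4 * (q + 1) ∣ 2 * N := by
    intro N hN hn
    have h1 : 2 * 2 ∣ 2 * N := ((Dvd.intro _ rfl : 2 * 2 ∣ 4 * (q + 1))).trans hn
    exact hN (Nat.dvd_of_mul_dvd_mul_left (by norm_num) h1)
  have od : ∀ a b, ¬ 2 ∣ a → ¬ 2 ∣ b → ¬ 2 ∣ a * b := fun a b ha hb h => ((Nat.prime_two.dvd_mul).1 h).elim ha hb
  rintro (h | h | h | ⟨-, h | h | h | h | h⟩ | ⟨hp', h⟩)
  · exact k1 _ o1 h
  · exact k1 _ (od _ _ o2 o4) h
  · exact k1 _ (od _ _ o3 o5) h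
  · have := Nat.le_of_dvd (by norm_num) h
    (clear * - hq this; omega)
  · have h1 := Nat.dvd_of_mul_dvd_mul_left (by norm_num) h
    have h2 : q ^ 2 + q + 1 = (q + 1) * q + 1 := by ring
    rw [h2] at h1
    have h3 := (Nat.dvd_add_right (Dvd.intro _ rfl)).1 h1
    have := Nat.le_of_dvd (by norm_num) h3
    omega
  · have h1 := Nat.dvd_of_mul_dvd_mul_left (by norm_num) h
    have h2 := sq_sub (q := q) (by omega)
    have h3 : q ^ 2 - q + 1 + 2 * (q + 1) = (q + 1) * q + 3 := by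
      have : (q + 1) * q = q ^ 2 + q := by ring
      (clear * - h2 this; omega)
    have h4 : q + 1 ∣ (q + 1) * q + 3 := by
      rw [← h3]
      exact Nat.dvd_add h1 (Dvd.intro_left _ rfl)
    have h5 := (Nat.dvd_add_right (Dvd.intro _ rfl)).1 h4
    have := Nat.le_of_dvd (by norm_num) h5
    omega
  · exact k2 _ o2 h
  · exact k2 _ o3 h
  · omega

/-! ### characteristic three -/

theorem q_three (hP : Par 3 q) : 3 ∣ q := by
  rcases hP.cases with ⟨h, -⟩ | ⟨-, h, -⟩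
  · omega
  · exact h

theorem three_of (hP : Par 3 q) : ¬ 3 ∣ mm q ∧ ¬ 3 ∣ (q ^ 3 - 1) ∧ ¬ 3 ∣ (q ^ 3 + 1) ∧ ¬ 3 ∣ (q + 1) ∧ ¬ 3 ∣ (q - 1) := by
  have h3 := q_three hP
  have hmm : ¬ 3 ∣ mm q := fun h => (prime_mm (by have := hP.hq; omega) Nat.prime_three h).2.1 h3
  obtain ⟨m, rfl⟩ := h3
  have hq := hP.hq
  have h1 : (3 * m) ^ 3 = 3 * (9 * m ^ 3) := by ring
  have h3 : 1 ≤ m ^ 3 := Nat.one_le_pow _ _ (by omega)
  refine ⟨hmm, ?_, ?_, ?_, ?_⟩
  · rw [h1]; omega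
  · rw [h1]; omega
  · omega
  · omega

theorem Om.three_nine (hP : Par 3 q) {n : ℕ} (h : Om 3 q n) (h9 : 9 ∣ n) : n ∣ 9 := by
  obtain ⟨o1, o2, o3, o4, o5⟩ := three_of hP
  have h39 : 3 ∣ n := (by norm_num : 3 ∣ 9).trans h9
  have k1 : ∀ N, ¬ 3 ∣ N → ¬ n ∣ N := fun N hN hn => hN (h39.trans hn)
  have k3 : ∀ N, ¬ 3 ∣ N → ¬ n ∣ 3 * N := by
    intro N hN hn
    have h1 : 3 * 3 ∣ 3 * N := (by norm_num : 3 * 3 ∣ 9).trans (h9.trans hn)
    exact hN (Nat.dvd_of_mul_dvd_mul_left (by norm_num) h1)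
  have od : ∀ a b, ¬ 3 ∣ a → ¬ 3 ∣ b → ¬ 3 ∣ a * b := fun a b ha hb h => ((Nat.prime_three.dvd_mul).1 h).elim ha hb
  rcases h with h | h | h | ⟨hp', h⟩ | ⟨-, h | h | h⟩
  · exact absurd h (k1 _ o1)
  · exact absurd h (k1 _ (od _ _ o2 o4))
  · exact absurd h (k1 _ (od _ _ o3 o5))
  · omega
  · exact h
  · exact absurd h (k3 _ o2)
  · exact absurd h (k3 _ o3)

theorem not_om_eighteen (hP : Par 3 q) : ¬ Om 3 q (3 * 6) := fun h => by
  have := h.three_nine hP (by norm_num)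
  norm_num at this

/-! ### primes of order three and six -/

theorem not_nine_dvd (q : ℕ) : ¬ 9 ∣ q ^ 2 + q + 1 := by
  intro h
  have h1 : (q ^ 2 + q + 1) % 9 = 0 := Nat.mod_eq_zero_of_dvd h
  have h2 : q % 9 < 9 := Nat.mod_lt _ (by norm_num)
  rw [Nat.add_mod, Nat.add_mod (q ^ 2), Nat.pow_mod] at h1
  interval_cases (q % 9) <;> simp at h1

theorem exists_prime_ne_three {N : ℕ} (hN : 3 < N) (h9 : ¬ 9 ∣ N) : ∃ r, r.Prime ∧ r ≠ 3 ∧ r ∣ N := by
  by_contra hcon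
  push Not at hcon
  have h1 : ∀ r, r.Prime → r ∣ N → r = 3 := fun r hr hd => by
    by_contra h
    exact hcon r hr h hd
  have h2 := Nat.eq_prime_pow_of_unique_prime_dvd (n := N) (p := 3) (by omega) (fun {d} hd hdN => h1 d hd hdN)
  rcases Nat.lt_or_ge N.primeFactorsList.length 2 with h3 | h3
  · have h4 : N ≤ 3 ^ 1 := by
      rw [h2]
      exact Nat.pow_le_pow_right (by norm_num) (by omega)
    omega
  · apply h9
    rw [h2]
    exact (by norm_num : (9 : ℕ) = 3 ^ 2) ▸ pow_dvd_pow 3 h3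

/-- primes of order 3 -/
theorem exists_r3 (hP : Par p q) : ∃ r, r.Prime ∧ 5 < r ∧ r ∣ q ^ 2 + q + 1 := by
  have hq := hP.hq
  obtain ⟨r, hr, h3, hd⟩ := exists_prime_ne_three (N := q ^ 2 + q + 1) (by linarith only [hq, _root_.sq_nonneg (↑q : ℤ)]) (not_nine_dvd q)
  refine ⟨r, hr, ?_, hd⟩
  have h2 : r ≠ 2 := by
    rintro rfl
    have h1 : 2 ∣ q ^ 2 + q := by
      have : q ^ 2 + q = q * (q + 1) := by ring
      rw [this]
      exact (Nat.even_mul_succ_self q).two_dvd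
    omega
  have h5 : r ≠ 5 := by
    rintro rfl
    have h1 : (q ^ 2 + q + 1) % 5 = 0 := Nat.mod_eq_zero_of_dvd hd
    have h2 : q % 5 < 5 := Nat.mod_lt _ (by norm_num)
    rw [Nat.add_mod, Nat.add_mod (q ^ 2), Nat.pow_mod] at h1
    interval_cases (q % 5) <;> simp at h1
  have h4 : r ≠ 4 := by
    rintro rfl
    norm_num at hr
  have := hr.two_le
  omega

theorem sub_succ (hq : 1 ≤ q) : (q - 1) ^ 2 + (q - 1) + 1 = q ^ 2 - q + 1 := by
  obtain ⟨a, rfl⟩ : ∃ a, q = a + 1 := ⟨q - 1, by omega⟩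
  have : (a + 1) ^ 2 = a ^ 2 + a + (a + 1) := by ring
  rw [this]
  simp only [_root_.add_tsub_cancel_right, _root_.Nat.add_left_cancel_iff]

/-- primes of order 6 -/
theorem exists_r6 (hP : Par p q) : ∃ r, r.Prime ∧ 5 < r ∧ r ∣ q ^ 2 - q + 1 := by
  have hq := hP.hq
  have e := sub_succ (q := q) (by omega)
  have h7 : 3 < (q - 1) ^ 2 + (q - 1) + 1 := by
    obtain ⟨a, rfl⟩ := hP.exists_add
    have : a + 3 - 1 = a + 2 := by omega
    rw [this]
    nlinarith only []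
  obtain ⟨r, hr, h3, hd⟩ := exists_prime_ne_three (N := (q - 1) ^ 2 + (q - 1) + 1) h7 (not_nine_dvd (q - 1))
  refine ⟨r, hr, ?_, e ▸ hd⟩
  have h2 : r ≠ 2 := by
    rintro rfl
    have h1 : 2 ∣ (q - 1) ^ 2 + (q - 1) := by
      have : (q - 1) ^ 2 + (q - 1) = (q - 1) * ((q - 1) + 1) := by ring
      rw [this]
      exact (Nat.even_mul_succ_self (q - 1)).two_dvd
    omega
  have h5 : r ≠ 5 := by
    rintro rfl
    have h1 : ((q - 1) ^ 2 + (q - 1) + 1) % 5 = 0 := Nat.mod_eq_zero_of_dvd hd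
    have h2 : (q - 1) % 5 < 5 := Nat.mod_lt _ (by norm_num)
    rw [Nat.add_mod, Nat.add_mod ((q - 1) ^ 2), Nat.pow_mod] at h1
    interval_cases ((q - 1) % 5) <;> simp at h1
  have h4 : r ≠ 4 := by
    rintro rfl
    norm_num at hr
  have := hr.two_le
  omega

/-- primes of order 3 and 6 are not adjacent -/
theorem not_om_three_six (hP : Par p q) {r s : ℕ} (hr : r.Prime) (hr5 : 5 < r) (hrd : r ∣ q ^ 2 + q + 1) (hs : s.Prime)
    (hs5 : 5 < s) (hsd : s ∣ q ^ 2 - q + 1) : ¬ Om p q (r * s) := by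
  have hq := hP.hq
  have hq1 : 1 ≤ q := by omega
  have hr3 : r ∣ q ^ 3 - 1 := by rw [cube_sub hq1]; exact Dvd.dvd.mul_right hrd _
  have hs3 : s ∣ q ^ 3 + 1 := by rw [cube_add hq1]; exact Dvd.dvd.mul_right hsd _
  have hc : 1 ≤ q ^ 3 := Nat.one_le_pow _ _ hq1
  have small : ∀ {t : ℕ}, 5 < t → ∀ k, k ≠ 0 → k ≤ 5 → ¬ t ∣ k := by
    intro t ht k hk0 hk h
    have := Nat.le_of_dvd (by omega) h
    omega
  have hs3' : ¬ s ∣ q ^ 3 - 1 := by
    intro h
    have h1 := Nat.dvd_sub hs3 h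
    have h2 : q ^ 3 + 1 - (q ^ 3 - 1) = 2 := by omega
    rw [h2] at h1
    exact small hs5 2 (by norm_num) (by norm_num) h1
  have hr3' : ¬ r ∣ q ^ 3 + 1 := by
    intro h
    have h1 := Nat.dvd_sub h hr3
    have h2 : q ^ 3 + 1 - (q ^ 3 - 1) = 2 := by omega
    rw [h2] at h1
    exact small hr5 2 (by norm_num) (by norm_num) h1
  have hs1 : ¬ s ∣ q + 1 := by
    intro h
    have h2 := sq_sub hq1
    have h3 : q ^ 2 - q + 1 + 2 * (q + 1) = (q + 1) * q + 3 := by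
      have : (q + 1) * q = q ^ 2 + q := by ring
      omega
    have h4 : s ∣ (q + 1) * q + 3 := by
      rw [← h3]
      exact Nat.dvd_add hsd (Dvd.dvd.mul_left h 2)
    exact small hs5 3 (by norm_num) (by norm_num) ((Nat.dvd_add_right (Dvd.dvd.mul_right h _)).1 h4)
  have hr1 : ¬ r ∣ q - 1 := by
    intro h
    have h3 : q ^ 2 + q + 1 = (q - 1) * (q + 2) + 3 := by
      obtain ⟨a, rfl⟩ : ∃ a, q = a + 1 := ⟨q - 1, by omega⟩
      rw [Nat.add_sub_cancel]
      ring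
    rw [h3] at hrd
    exact small hr5 3 (by norm_num) (by norm_num) ((Nat.dvd_add_right (Dvd.dvd.mul_right h _)).1 hrd)
  have hsm : ¬ s ∣ mm q := fun h => (prime_mm hq1 hs h).2.2.2 hs3
  have hn : r ∣ r * s := Dvd.intro _ rfl
  have hn' : s ∣ r * s := Dvd.intro_left _ rfl
  have hm2 : ¬ s ∣ q ^ 2 + q + 1 := fun h => hs3' (by rw [cube_sub hq1]; exact Dvd.dvd.mul_right h _)
  have hm6 : ¬ r ∣ q ^ 2 - q + 1 := fun h => hr3' (by rw [cube_add hq1]; exact Dvd.dvd.mul_right h _)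
  have mul : ∀ {t : ℕ}, t.Prime → 5 < t → ∀ k N, k ≠ 0 → k ≤ 5 → ¬ t ∣ N → ¬ t ∣ k * N := by
    intro t ht ht5 k N hk0 hk hN h
    rcases (ht.dvd_mul).1 h with h | h
    · exact small ht5 k hk0 hk h
    · exact hN h
  rintro (h | h | h | ⟨-, h | h | h | h | h⟩ | ⟨-, h | h | h⟩)
  · exact hsm (hn'.trans h)
  · rcases (hs.dvd_mul).1 (hn'.trans h) with h | h
    · exact hs3' h
    · exact hs1 h
  · rcases (hr.dvd_mul).1 (hn.trans h) with h | h
    · exact hr3' h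
    · exact hr1 h
  · have h1 : r ∣ 2 ^ 3 := hn.trans h
    exact small hr5 2 (by norm_num) (by norm_num) (hr.dvd_of_dvd_pow h1)
  · exact mul hs hs5 4 _ (by norm_num) (by norm_num) hm2 (hn'.trans h)
  · exact mul hr hr5 4 _ (by norm_num) (by norm_num) hm6 (hn.trans h)
  · exact mul hs hs5 2 _ (by norm_num) (by norm_num) hs3' (hn'.trans h)
  · exact mul hr hr5 2 _ (by norm_num) (by norm_num) hr3' (hn.trans h)
  · have h1 : r ∣ 3 ^ 2 := hn.trans h
    exact small hr5 3 (by norm_num) (by norm_num) (hr.dvd_of_dvd_pow h1)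
  · exact mul hs hs5 3 _ (by norm_num) (by norm_num) hs3' (hn'.trans h)
  · exact mul hr hr5 3 _ (by norm_num) (by norm_num) hr3' (hn.trans h)

/-- prime divisors of `mm q` are at least 7 -/
theorem five_lt_of_mm (hP : Par p q) {r : ℕ} (hr : r.Prime) (h : r ∣ mm q) : 5 < r := by
  have hq := hP.hq
  obtain ⟨h2, h0, hm, hp⟩ := prime_mm (by omega) hr h
  have h3 : r ≠ 3 := by
    rintro rfl
    have h1 : q % 3 < 3 := Nat.mod_lt _ (by norm_num)
    have hc : 1 ≤ q ^ 3 := Nat.one_le_pow _ _ (by omega)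
    have e : q ^ 3 % 3 = q % 3 := by
      rw [Nat.pow_mod]
      interval_cases (q % 3) <;> rfl
    omega
  have h5 : r ≠ 5 := by
    rintro rfl
    have h1 : (q ^ 4 + 1) % 5 = q ^ 2 % 5 := by
      rw [← mm_eq, Nat.add_mod, Nat.mod_eq_zero_of_dvd h, zero_add, Nat.mod_mod]
    have h2 : q % 5 < 5 := Nat.mod_lt _ (by norm_num)
    rw [Nat.add_mod, Nat.pow_mod, Nat.pow_mod q 2] at h1
    interval_cases (q % 5) <;> simp at h1
  have h4 : r ≠ 4 := by
    rintro rfl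
    norm_num at hr
  have := hr.two_le
  omega

end

end Cfsg.Agent.H135.TD
end

-- part: H135/TD/OwnTwo
section
set_option autoImplicit false

/-!
# Modules in characteristic two (helper135)
-/

namespace Cfsg.Agent.H135.TD

open Cfsg.Agent.SplitTwo Cfsg.Agent.TitsThree.RankTwoZ Cfsg.Agent.Lib.SL2Mat Cfsg.Agent.Cit.HexBase
  Cfsg.Agent.Cit.HexBase.HexGrp

section mod

variable {L k V : Type*} [Group L] [Field k] [AddCommGroup V] [Module k V] (ρ : L →* (V →ₗ[k] V))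

theorem rho_mul (a b : L) (v : V) : ρ (a * b) v = ρ a (ρ b v) := by rw [map_mul]; rfl

theorem rho_one (v : V) : ρ 1 v = v := by rw [map_one]; rfl

theorem rho_inv_rho (a : L) (v : V) : ρ a⁻¹ (ρ a v) = v := by rw [← rho_mul, inv_mul_cancel, rho_one]

theorem rho_inv_fix {a : L} {v : V} (h : ρ a v = v) : ρ a⁻¹ v = v := by
  conv_lhs => rw [← h]
  exact rho_inv_rho ρ a v

theorem rho_pow_fix {a : L} {v : V} (h : ρ a v = v) (n : ℕ) : ρ (a ^ n) v = v := by
  induction n with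
  | zero => rw [pow_zero, rho_one]
  | succ n ih => rw [pow_succ, rho_mul, h, ih]

theorem norm_fix {z : L} {n : ℕ} (hz : z ^ n = 1) (v : V) :
    ρ z (∑ i ∈ Finset.range n, ρ (z ^ i) v) = ∑ i ∈ Finset.range n, ρ (z ^ i) v := by
  rw [map_sum]
  have h1 : ∀ i, ρ z (ρ (z ^ i) v) = ρ (z ^ (i + 1)) v := by
    intro i
    rw [← rho_mul, pow_succ']
  simp_rw [h1]
  have e2 := Finset.sum_range_succ (fun i => ρ (z ^ i) v) n
  have e3 := Finset.sum_range_succ' (fun i => ρ (z ^ i) v) n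
  rw [e2, hz, pow_zero] at e3
  exact (add_right_cancel e3).symm

variable [CharP k 2]

include k in
theorem add_self (v : V) : v + v = 0 := by
  have h : (2 : k) = 0 := CharTwo.two_eq_zero
  rw [← two_smul k, h, zero_smul]

/-- `u` inverts `z` of odd order acting without fixed points -/
theorem exists_of_fix {u z : L} {h : ℕ} (hz : z ^ (2 * h + 1) = 1) (hu : u * z * u⁻¹ = z⁻¹)
    (hfix : ∀ v, ρ z v = v → v = 0) {v : V} (hv : ρ u v = v) : ∃ w, w + ρ u w = v := by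
  have hpow : ∀ i : ℕ, u * z ^ i * u⁻¹ = (z ^ i)⁻¹ := by
    intro i
    rw [← inv_pow, ← hu, conj_pow]
  have hs := hfix _ (norm_fix ρ hz v)
  obtain ⟨w, hw⟩ : ∃ w, w = ∑ i ∈ Finset.range h, ρ (z ^ (i + 1)) v := ⟨_, rfl⟩
  have huw : ρ u w = ∑ i ∈ Finset.range h, ρ (z ^ (h + i + 1)) v := by
    rw [hw, map_sum, ← Finset.sum_range_reflect]
    refine Finset.sum_congr rfl fun i hi => ?_
    rw [Finset.mem_range] at hi
    have h1 : z ^ (h + i + 1) = (z ^ (h - 1 - i + 1))⁻¹ := by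
      rw [eq_inv_iff_mul_eq_one, ← pow_add]
      have : h + i + 1 + (h - 1 - i + 1) = 2 * h + 1 := by omega
      rw [this, hz]
    rw [h1, ← hpow, rho_mul, rho_mul, rho_inv_fix ρ hv]
  refine ⟨w, ?_⟩
  rw [Finset.sum_range_succ', pow_zero, rho_one, two_mul, Finset.sum_range_add, ← hw] at hs
  have h2 : ∑ i ∈ Finset.range h, ρ (z ^ (h + i + 1)) v = ρ u w := huw.symm
  rw [h2] at hs
  have h3 := add_self (k := k) v
  rw [← h3] at hs
  exact add_right_cancel hs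

/-- an element of order 8 with vanishing norm whose fourth power acts freely -/
theorem eight {x : L} (hx : x ^ 8 = 1) (hN : ∀ v : V, ∑ i ∈ Finset.range 8, ρ (x ^ i) v = 0)
    (h4 : ∀ v, ρ (x ^ 4) v = v → ∃ w, w + ρ (x ^ 4) w = v) (v : V) : v = 0 := by
  have hs := fun v : V => add_self (k := k) v
  obtain ⟨A, hA⟩ : ∃ A : V →ₗ[k] V, ∀ v, A v = v + ρ x v := ⟨LinearMap.id + ρ x, fun v => rfl⟩
  have cancel : ∀ a b c : V, a + b + (b + c) = a + c := by
    intro a b c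
    rw [add_assoc, ← add_assoc b b c, hs, zero_add]
  have hA2 : ∀ v, A (A v) = v + ρ (x ^ 2) v := by
    intro v
    rw [hA v, map_add, hA, hA, cancel, pow_two, rho_mul]
  have hA4 : ∀ v, A (A (A (A v))) = v + ρ (x ^ 4) v := by
    intro v
    rw [hA2 v, map_add, map_add, hA2, hA2, cancel, ← rho_mul, ← pow_add]
  have hA8 : ∀ v, A (A (A (A (A (A (A (A v))))))) = 0 := by
    intro v
    rw [hA4 v, map_add, map_add, map_add, map_add, hA4, hA4, cancel, ← rho_mul, ← pow_add, hx, rho_one]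
    exact hs v
  have hA7 : ∀ v, A (A (A (A (A (A (A v)))))) = 0 := by
    intro v
    rw [hA4 (A (A (A v))), hA2 (A v), hA v, ← hN v]
    simp only [map_add, Finset.sum_range_succ, Finset.sum_range_zero, zero_add, pow_zero, rho_one, pow_one]
    simp only [← rho_mul, ← pow_add, ← pow_succ]
    abel
  have step : ∀ v, ∃ w, A (A (A v)) = A (A (A (A w))) := by
    intro v
    have h1 := hA7 v
    rw [hA4] at h1
    have h2 : ρ (x ^ 4) (A (A (A v))) = A (A (A v)) := by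
      have h3 := hs (A (A (A v)))
      rw [← h3] at h1
      exact add_left_cancel h1
    obtain ⟨w, hw⟩ := h4 _ h2
    exact ⟨w, by rw [hA4, hw]⟩
  have h3 : ∀ v, A (A (A v)) = 0 := by
    intro v
    obtain ⟨w1, e1⟩ := step v
    obtain ⟨w2, e2⟩ := step w1
    obtain ⟨w3, e3⟩ := step w2
    obtain ⟨w4, e4⟩ := step w3
    obtain ⟨w5, e5⟩ := step w4
    rw [e1, e2, e3, e4, e5, hA8]
  have h5 : ρ (x ^ 4) v = v := by
    have h6 : A (A (A (A v))) = 0 := by rw [h3]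
    rw [hA4, ← hs v] at h6
    exact add_left_cancel h6
  obtain ⟨w, hw⟩ := h4 v h5
  rw [← hw, ← hA4, h3]

end mod

section main

variable {q : ℕ} {E : Type*} [Field E] {σ : E ≃+* E} {L : Type*} [Group L] (c : HexGrp σ L)

theorem orderOf_dg {p : ℕ} (hd : Fd p q σ) {s : E} (hs : s ≠ 0) (hs1 : orderOf s = q ^ 3 - 1) :
    orderOf (c.pb (dg s hs)) = q ^ 3 - 1 := by
  have hact : ∀ (i : ℕ) (a : E), c.pb (dg s hs) ^ i * c.x3 a * (c.pb (dg s hs) ^ i)⁻¹ = c.x3 ((s ^ (q ^ 2 + q - 1)) ^ i * a) := by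
    intro i
    induction i with
    | zero => intro v; simp only [_root_.pow_zero, _root_.one_mul, _root_.inv_one, _root_.mul_one]
    | succ i ih =>
      intro v
      have e : c.pb (dg s hs) ^ (i + 1) * c.x3 v * (c.pb (dg s hs) ^ (i + 1))⁻¹ =
          c.pb (dg s hs) ^ i * (c.pb (dg s hs) * c.x3 v * (c.pb (dg s hs))⁻¹) * (c.pb (dg s hs) ^ i)⁻¹ := by
        rw [pow_succ, mul_inv_rev]
        group
      rw [e, act_b3 c hd, ih, ← mul_assoc, ← pow_succ]
  apply Nat.dvd_antisymm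
  · apply orderOf_dvd_of_pow_eq_one
    rw [← map_pow, dg_pow]
    have : dg (s ^ (q ^ 3 - 1)) (pow_ne_zero _ hs) = 1 := by
      have h1 : s ^ (q ^ 3 - 1) = 1 := by rw [← hs1, pow_orderOf_eq_one]
      apply ext_ent <;> simp [h1]
    rw [this, map_one]
  · have h1 := hact (orderOf (c.pb (dg s hs))) 1
    rw [pow_orderOf_eq_one] at h1
    have h2 : c.x3 ((s ^ (q ^ 2 + q - 1)) ^ orderOf (c.pb (dg s hs)) * 1) = c.x3 1 := by
      rw [← h1]; group
    have h3 := c.x3_inj h2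
    rw [mul_one, ← pow_mul] at h3
    have h4 := orderOf_dvd_of_pow_eq_one h3
    rw [hs1] at h4
    exact (cop2 hd.one_lt).dvd_of_dvd_mul_left h4

theorem exists_gen {p : ℕ} (hd : Fd p q σ) : ∃ s : E, s ≠ 0 ∧ orderOf s = q ^ 3 - 1 := by
  have := hd.fin
  obtain ⟨u, hu⟩ := IsCyclic.exists_generator (α := Eˣ)
  refine ⟨u, u.ne_zero, ?_⟩
  rw [orderOf_units, orderOf_eq_card_of_forall_mem_zpowers hu, Nat.card_units, hd.card]

variable {k V : Type*} [Field k] [CharP k 2] [AddCommGroup V] [Module k V] (ρ : L →* (V →ₗ[k] V))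

include c in
/-- **characteristic two**: a module for `³D₄(q)` with vanishing norms is zero. -/
theorem own_two (hd : Fd 2 q σ)
    (hN : ∀ l : L, ¬ Om 2 q (2 * orderOf l) → ∀ v : V, ∑ i ∈ Finset.range (orderOf l), ρ (l ^ i) v = 0) (v : V) :
    v = 0 := by
  have hq := hd.one_lt
  have hfin := hd.fin
  have hfinP : Finite ↥(fx σ) := Subtype.finite
  have hchar := hd.char
  have hcharP := hd.char_fx
  have h2E : (2 : E) = 0 := CharTwo.two_eq_zero
  have hs2 := fun v : V => add_self (k := k) v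
  obtain ⟨o1, o2, o3, o4, o5, o6, o7⟩ := odd_of hd.par
  -- the torus element of order `q + 1`
  obtain ⟨τ, hτ⟩ := exists_cmp ↥(fx σ)
  rw [hd.card_fx] at hτ
  obtain ⟨zz, hzz⟩ : ∃ zz : SL2 ↥(fx σ), zz = lo 1 * cmp τ * (lo 1)⁻¹ := ⟨_, rfl⟩
  have hzzo : orderOf zz = q + 1 := by
    rw [hzz, ← hτ]
    exact orderOf_injective (MulAut.conj (lo 1)).toMonoidHom (MulAut.conj (lo 1)).injective (cmp τ)
  have hinv : up 1 * zz * (up 1)⁻¹ = zz⁻¹ := by rw [hzz]; exact cmp_inv τ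
  obtain ⟨z, hz⟩ : ∃ z : L, z = c.p4 zz := ⟨_, rfl⟩
  have hzo : orderOf z = q + 1 := by
    rw [hz, ← hzzo]
    exact orderOf_injective c.p4 c.p4_inj zz
  have hodd : Odd (q + 1) := by
    rw [← Nat.not_even_iff_odd, even_iff_two_dvd]
    exact o4
  -- the element of order eight
  obtain ⟨t, ht, ht4⟩ := (c.par.mem4 _).1 (c.p4_up_mem 1)
  have ht0 : t ≠ 0 := by
    rintro rfl
    rw [c.x4_zero] at ht4
    have h1 := c.p4_inj (ht4.symm.trans (map_one c.p4).symm)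
    have h2 := congrArg (fun y => ent y 0 1) h1
    simp only [up_01, ent_one_01] at h2
    exact one_ne_zero h2
  have htn : (⟨t, ht⟩ : ↥(fx σ)) ≠ 0 := fun h => ht0 (congrArg Subtype.val h)
  obtain ⟨d, hdd⟩ : ∃ d : L, d = c.pa (dg ⟨t, ht⟩ htn) := ⟨_, rfl⟩
  obtain ⟨x, hx⟩ : ∃ x : L, x = d * (c.x1 1 * c.x6 1) * d⁻¹ := ⟨_, rfl⟩
  have hx0 : (c.x1 1 * c.x6 1) ^ 4 = c.x4 1 := by
    have := reg_pow_four c (map_zero σ) (map_zero σ) (map_zero σ) (map_zero σ)
    rwa [ff_zero, mul_one] at this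
  have hx4 : x ^ 4 = c.p4 (up 1) := by
    rw [hx, conj_pow, hx0, ← ht4, hdd, (c.act_a ⟨t, ht⟩ htn).a4 1 (map_one σ)]
    congr 1
    rw [nrm_of_fix (by rw [map_inv₀]; congr 1), mul_one]
    change (t ^ 2) ^ 2 * t⁻¹ ^ 3 = t
    field_simp
  have hxo : orderOf x = 8 := by
    have h1 := orderOf_eight c (map_zero σ) (map_zero σ) (map_zero σ) (map_zero σ)
    rw [ff_zero, mul_one] at h1
    rw [hx, ← h1]
    exact orderOf_injective (MulAut.conj d).toMonoidHom (MulAut.conj d).injective _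
  by_cases hfix : ∀ v, ρ z v = v → v = 0
  · -- `z` acts without fixed points
    have hx8 : x ^ 8 = 1 := by rw [← hxo, pow_orderOf_eq_one]
    refine eight ρ hx8 ?_ ?_ v
    · have h1 := hN x (by rw [hxo]; exact not_om_sixteen hd.par)
      rwa [hxo] at h1
    · intro v hv
      rw [hx4] at hv ⊢
      obtain ⟨h, hh⟩ := hodd
      refine exists_of_fix ρ (z := z) (h := h) ?_ ?_ hfix hv
      · rw [← hh, ← hzo, pow_orderOf_eq_one]
      · rw [hz, ← map_mul, ← map_inv, ← map_mul, hinv, map_inv]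
  · exfalso
    push Not at hfix
    obtain ⟨w₀, hw₀, hw₁⟩ := hfix
    -- involutions of `K1` act trivially on the fixed points
    have hinvol : ∀ (y : SL2 E), c.pb y * c.pb y = 1 → c.pb y ≠ 1 → ∀ w, ρ z w = w → ρ (c.pb y) w = w := by
      intro y hy1 hy2 w hw
      have hc : Commute z (c.pb y) := by rw [hz]; exact (c.comm_pb_p4 y zz).symm
      have ho : orderOf (c.pb y) = 2 := by
        have : Fact (Nat.Prime 2) := ⟨Nat.prime_two⟩
        exact orderOf_eq_prime (by rw [pow_two]; exact hy1) hy2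
      have hzt : orderOf (z * c.pb y) = 2 * (q + 1) := by
        rw [hc.orderOf_mul_eq_mul_orderOf_of_coprime, hzo, ho, mul_comm]
        rw [hzo, ho, Nat.coprime_two_right]
        exact hodd
      have h1 := hN (z * c.pb y) (by rw [hzt]; exact not_om_four hd.par) w
      rw [hzt] at h1
      have h2 : ∀ i, ρ ((z * c.pb y) ^ i) w = ρ (c.pb y ^ i) w := by
        intro i
        rw [hc.mul_pow, (hc.pow_pow i i).eq, rho_mul, rho_pow_fix ρ hw]
      simp_rw [h2] at h1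
      have h3 : ∀ m : ℕ, ∑ i ∈ Finset.range (2 * m), ρ (c.pb y ^ i) w = m • (w + ρ (c.pb y) w) := by
        intro m
        induction m with
        | zero => simp only [_root_.MulZeroClass.mul_zero, _root_.Finset.range_zero, _root_.map_pow, _root_.Finset.sum_empty, _root_.zero_nsmul]
        | succ m ih =>
          rw [Nat.mul_succ, Finset.sum_range_succ, Finset.sum_range_succ, ih, succ_nsmul]
          have e1 : c.pb y ^ (2 * m) = 1 := by rw [pow_mul, pow_two, hy1, one_pow]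
          rw [pow_succ, e1, one_mul, rho_one, add_assoc]
      rw [h3] at h1
      obtain ⟨h, hh⟩ := hodd
      have h4 : (q + 1) • (w + ρ (c.pb y) w) = w + ρ (c.pb y) w := by
        rw [hh, add_smul, one_smul, mul_comm, mul_smul, two_smul, hs2, smul_zero, zero_add]
      rw [h4, ← hs2 w] at h1
      exact add_left_cancel h1
    have hup : ∀ a : E, ∀ w, ρ z w = w → ρ (c.pb (up a)) w = w := by
      intro a w hw
      by_cases h1 : c.pb (up a) = 1
      · rw [h1, rho_one]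
      · refine hinvol _ ?_ h1 w hw
        rw [← map_mul, up_mul, ← two_mul, h2E, zero_mul, up_zero, map_one]
    have hlo : ∀ a : E, ∀ w, ρ z w = w → ρ (c.pb (lo a)) w = w := by
      intro a w hw
      by_cases h1 : c.pb (lo a) = 1
      · rw [h1, rho_one]
      · refine hinvol _ ?_ h1 w hw
        rw [← map_mul, lo_mul, ← two_mul, h2E, zero_mul, lo_zero, map_one]
    have hall : ∀ y : SL2 E, ρ (c.pb y) w₀ = w₀ := by
      intro y
      obtain ⟨a, b, a', b', rfl⟩ := exists_up_lo y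
      simp only [map_mul]
      change ρ (c.pb (up a)) (ρ (c.pb (lo b)) (ρ (c.pb (up a')) (ρ (c.pb (lo b')) w₀))) = w₀
      rw [hlo b' w₀ hw₀, hup a' w₀ hw₀, hlo b w₀ hw₀, hup a w₀ hw₀]
    obtain ⟨s, hs, hs1⟩ := exists_gen hd
    have hc : Commute z (c.pb (dg s hs)) := by rw [hz]; exact (c.comm_pb_p4 _ zz).symm
    have hcop : Nat.Coprime (q + 1) (q ^ 3 - 1) := by
      rw [sub_cube hq]
      refine Nat.Coprime.mul_right (cop1 q) ?_
      have h1 : q + 1 = 2 + (q - 1) := by (clear * - hq; omega)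
      rw [h1, Nat.coprime_add_self_left, Nat.coprime_two_left, ← Nat.not_even_iff_odd, even_iff_two_dvd]
      exact o5
    have ho : orderOf (z * c.pb (dg s hs)) = (q + 1) * (q ^ 3 - 1) := by
      rw [hc.orderOf_mul_eq_mul_orderOf_of_coprime, hzo, orderOf_dg c hd hs hs1]
      rw [hzo, orderOf_dg c hd hs hs1]
      exact hcop
    have h1 := hN (z * c.pb (dg s hs)) (by rw [ho]; exact not_om_max hd.par le_rfl) w₀
    have h2 : ρ (z * c.pb (dg s hs)) w₀ = w₀ := by rw [rho_mul, hall, hw₀]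
    simp_rw [rho_pow_fix ρ h2] at h1
    rw [Finset.sum_const, Finset.card_range, ho] at h1
    have hodd2 : Odd ((q + 1) * (q ^ 3 - 1)) := by
      refine Odd.mul hodd ?_
      rw [← Nat.not_even_iff_odd, even_iff_two_dvd]
      exact o2
    obtain ⟨h, hh⟩ := hodd2
    rw [hh, add_smul, one_smul, mul_comm, mul_smul, two_smul, hs2, smul_zero, zero_add] at h1
    exact hw₁ h1

end main

end Cfsg.Agent.H135.TD
end

-- part: H135/TD/OwnThree
section
set_option autoImplicit false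

/-!
# Modules in characteristic three (helper135)
-/

namespace Cfsg.Agent.H135.TD

open Cfsg.Agent.SplitTwo Cfsg.Agent.TitsThree.RankTwoZ Cfsg.Agent.Lib.SL2Mat Cfsg.Agent.Cit.HexBase
  Cfsg.Agent.Cit.HexBase.HexGrp

/-! ### the group `SL(2, 3)` -/

section sl

variable {F : Type*} [Field F]

/-- the element `-1` -/
def mone (F : Type*) [Field F] : SL2 F := dg (-1) (neg_ne_zero.2 one_ne_zero)

theorem wm_sq : (wm 1 one_ne_zero : SL2 F) * wm 1 one_ne_zero = mone F := by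
  apply ext_ent <;> simp [mone, ent_mul]

variable [CharP F 3]

theorem three_eq : (3 : F) = 0 := CharP.cast_eq_zero F 3

theorem up_cube : (up 1 : SL2 F) * up 1 * up 1 = 1 := by
  rw [up_mul, up_mul, ← up_zero]
  congr 1
  linear_combination three_eq (F := F)

/-- `u a u⁻¹ = b`, `u b u⁻¹ = - a b`, `a b = - b a` -/
theorem rel_one : (up 1 * (up 1 * wm 1 one_ne_zero * (up 1)⁻¹) * (up 1)⁻¹ : SL2 F) =
    mone F * (wm 1 one_ne_zero * (up 1 * wm 1 one_ne_zero * (up 1)⁻¹)) := by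
  have h3 := three_eq (F := F)
  rw [up_inv]
  apply ext_ent <;> simp only [mone, ent_mul, up_00, up_01, up_10, up_11, wm_00, wm_01, wm_10, wm_11, dg_00, dg_01,
    dg_10, dg_11, inv_neg, inv_one]
  · linear_combination (-1 : F) * h3
  · linear_combination (2 : F) * h3
  · ring
  · ring

theorem rel_two : (up 1 * wm 1 one_ne_zero * (up 1)⁻¹ * wm 1 one_ne_zero : SL2 F) =
    mone F * (wm 1 one_ne_zero * (up 1 * wm 1 one_ne_zero * (up 1)⁻¹)) := by
  have h3 := three_eq (F := F)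
  rw [up_inv]
  apply ext_ent <;> simp only [mone, ent_mul, up_00, up_01, up_10, up_11, wm_00, wm_01, wm_10, wm_11, dg_00, dg_01,
    dg_10, dg_11, inv_neg, inv_one]
  · linear_combination (-1 : F) * h3
  · ring
  · ring
  · linear_combination (-1 : F) * h3

/-- a normal subgroup of `SL(2, F)` containing `wm 1` is everything when `F` has an element with `s ^ 4 ≠ 1` -/
theorem eq_top_of_wm {F : Type*} [Field F] {H : Subgroup (SL2 F)} (hn : ∀ x ∈ H, ∀ y, y * x * y⁻¹ ∈ H)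
    (hw : (wm 1 one_ne_zero : SL2 F) ∈ H) {s : F} (hs : s ≠ 0) (hs4 : s ^ 4 ≠ 1) (x : SL2 F) : x ∈ H := by
  have hd : dg (s ^ 2) (pow_ne_zero 2 hs) ∈ H := by
    have h1 := H.mul_mem (hn _ hw (dg s hs)) (H.inv_mem hw)
    convert h1 using 1
    apply ext_ent <;> simp only [ent_mul, ent_inv, dg_00, dg_01, dg_10, dg_11, wm_00, wm_01, wm_10, wm_11, mk_00, mk_01,
      mk_10, mk_11] <;> field_simp <;> ring
  have hs2 : (s ^ 2) ^ 2 - 1 ≠ 0 := by
    intro h
    apply hs4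
    linear_combination h
  have hup : ∀ b : F, up b ∈ H := by
    intro b
    have h1 := H.mul_mem hd (hn _ (H.inv_mem hd) (up (b / ((s ^ 2) ^ 2 - 1))))
    have h2 : dg (s ^ 2) (pow_ne_zero 2 hs) * (up (b / ((s ^ 2) ^ 2 - 1)) * (dg (s ^ 2) (pow_ne_zero 2 hs))⁻¹ *
        (up (b / ((s ^ 2) ^ 2 - 1)))⁻¹) = up b := by
      have h3 : dg (s ^ 2) (pow_ne_zero 2 hs) * (up (b / ((s ^ 2) ^ 2 - 1)) * (dg (s ^ 2) (pow_ne_zero 2 hs))⁻¹ *
        (up (b / ((s ^ 2) ^ 2 - 1)))⁻¹) = (dg (s ^ 2) (pow_ne_zero 2 hs) * up (b / ((s ^ 2) ^ 2 - 1)) *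
        (dg (s ^ 2) (pow_ne_zero 2 hs))⁻¹) * (up (b / ((s ^ 2) ^ 2 - 1)))⁻¹ := by group
      rw [h3, dg_up', up_inv, up_mul]
      congr 1
      field_simp
      ring
    rwa [h2] at h1
  have hlo : ∀ b : F, lo b ∈ H := by
    intro b
    have h1 := hn _ (hup (-b)) (wm 1 one_ne_zero)
    rw [wm_up'] at h1
    simpa using h1
  obtain ⟨a, b, a', b', rfl⟩ := exists_up_lo x
  exact H.mul_mem (H.mul_mem (H.mul_mem (hup _) (hlo _)) (hup _)) (hlo _)

end sl

/-! ### the action of `SL(2, F)` on `W` -/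

section quad

variable {F : Type*} [Field F] [CharP F 3] {k V : Type*} [Field k] [CharP k 3] [AddCommGroup V] [Module k V]
  (f : SL2 F →* (V →ₗ[k] V))

include k in
theorem eq_zero_of_two {v : V} (h : v + v = 0) : v = 0 := by
  have h3 : (3 : k) = 0 := CharP.cast_eq_zero k 3
  have h4 : v + v + v = 0 := by
    have : v + v + v = (3 : k) • v := by module
    rw [this, h3, zero_smul]
  rwa [h, zero_add] at h4

theorem quad_fix (hq : ∀ w : V, f (mone F) w = w → w + f (up 1) w + f (up 1) (f (up 1) w) = 0) {w : V}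
    (hw : f (mone F) w = w) : f (wm 1 one_ne_zero) w = w := by
  have fm : ∀ (a b : SL2 F) (v : V), f (a * b) v = f a (f b v) := fun a b v => by rw [map_mul]; rfl
  have f1 : ∀ v : V, f 1 v = v := fun v => by rw [map_one]; rfl
  obtain ⟨u, hu⟩ : ∃ u : SL2 F, u = up 1 := ⟨_, rfl⟩
  obtain ⟨a, ha⟩ : ∃ a : SL2 F, a = wm 1 one_ne_zero := ⟨_, rfl⟩
  obtain ⟨b, hb⟩ : ∃ b : SL2 F, b = u * a * u⁻¹ := ⟨_, rfl⟩
  obtain ⟨m, hm⟩ : ∃ m : SL2 F, m = mone F := ⟨_, rfl⟩
  have r1 : u * b * u⁻¹ = m * (a * b) := by rw [hb, hu, ha, hm]; exact rel_one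
  have r2 : b * a = m * (a * b) := by rw [hb, hu, ha, hm]; exact rel_two
  have r3 : a * a = m := by rw [ha, hm]; exact wm_sq
  have r4 : u * u * u = 1 := by rw [hu]; exact up_cube
  have hmc : ∀ x, m * x = x * m := by
    intro x
    rw [hm]
    apply ext_ent <;> simp only [mone, ent_mul, dg_00, dg_01, dg_10, dg_11, inv_neg, inv_one] <;> ring
  rw [← hm] at hw hq
  rw [← hu] at hq
  rw [← ha]
  clear hm
  -- `W` is invariant
  have hW : ∀ (x : SL2 F) (w : V), f m w = w → f m (f x w) = f x w := by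
    intro x w hw
    rw [← fm, hmc, fm, hw]
  have r5 : b * b = m := by
    have h1 : b * b = u * (a * a) * u⁻¹ := by rw [hb]; group
    rw [h1, r3, ← hmc, mul_inv_cancel_right]
  -- commutation on `W`
  have e_ab : ∀ w, f m w = w → f b (f a w) = f a (f b w) := by
    intro w hw
    rw [← fm, r2, hmc, fm, hw, fm]
  have e_aa : ∀ w, f m w = w → f a (f a w) = w := by
    intro w hw
    rw [← fm, r3, hw]
  have e_bb : ∀ w, f m w = w → f b (f b w) = w := by
    intro w hw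
    rw [← fm, r5, hw]
  have e_ua : ∀ w, f u (f a w) = f b (f u w) := by
    intro w
    rw [← fm, ← fm, hb]
    congr 2
    group
  have e_ub : ∀ w, f m w = w → f u (f b w) = f a (f b (f u w)) := by
    intro w hw
    have h1 : u * b = m * (a * b) * u := by rw [← r1]; group
    rw [← fm, h1, mul_assoc, fm, fm, fm]
    exact hW a _ (hW b _ (hW u w hw))
  have e_uuu : ∀ w : V, f u (f u (f u w)) = w := by
    intro w
    rw [← fm, ← fm, r4, f1]
  -- eigenvectors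
  have key : ∀ w, f m w = w → f a w = w → f b w = -w → w = 0 := by
    intro w hw h1 h2
    have hw1 := hW u w hw
    have h3 : f b (f u w) = f u w := by rw [← e_ua, h1]
    have h4 : f a (f u w) = -f u w := by
      have := e_ub w hw
      rw [h3, h2, map_neg] at this
      exact this.symm
    have h5 : f b (f u (f u w)) = -f u (f u w) := by rw [← e_ua, h4, map_neg]
    have h6 : f a (f u (f u w)) = -f u (f u w) := by
      have := e_ub _ hw1
      rw [h3, h5, map_neg] at this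
      rw [this, neg_neg, ← this]
    have h7 := hq w hw
    have h8 : f a (w + f u w + f u (f u w)) = 0 := by rw [h7, map_zero]
    rw [map_add, map_add, h1, h4, h6] at h8
    apply eq_zero_of_two (k := k)
    calc w + w = (w + f u w + f u (f u w)) + (w + -f u w + -f u (f u w)) := by abel
      _ = 0 := by rw [h7, h8, add_zero]
  have hI : ∀ x, f m x = x → x - f b x + f a x - f a (f b x) = 0 := by
    intro x hx
    have hy : f m (x - f b x) = x - f b x := by rw [map_sub, hx, hW b x hx]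
    have hby : f b (x - f b x) = -(x - f b x) := by rw [map_sub, e_bb x hx]; abel
    have h1 := key ((x - f b x) + f a (x - f b x)) (by rw [map_add, hy, hW a _ hy]) (by
      rw [map_add, e_aa _ hy, add_comm]) (by
      rw [map_add, e_ab _ hy, hby, map_neg]
      abel)
    rw [map_sub] at h1
    rw [← h1]
    abel
  have hII : ∀ x, f m x = x → f a (f b x) = x := by
    intro x hx
    have hx2 := hW u _ (hW u x hx)
    have h1 : f u (f u (f u x) - f b (f u (f u x)) + f a (f u (f u x)) - f a (f b (f u (f u x)))) = 0 := by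
      rw [hI _ hx2, map_zero]
    rw [map_sub, map_add, map_sub, e_ua, e_ua, e_ub _ hx2, e_uuu, e_ab _ (hW b x hx), e_bb x hx] at h1
    have h2 := hI x hx
    have h3 : (x - f a (f b x)) + (x - f a (f b x)) = 0 := by
      calc (x - f a (f b x)) + (x - f a (f b x))
          = (x - f a (f b x) + f b x - f a x) + (x - f b x + f a x - f a (f b x)) := by abel
        _ = 0 := by rw [h1, h2, add_zero]
    exact (sub_eq_zero.1 (eq_zero_of_two (k := k) h3)).symm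
  have hx2 := hW u _ (hW u w hw)
  have h1 : f u (f a (f b (f u (f u w)))) = f u (f u (f u w)) := by rw [hII _ hx2]
  rw [e_ua, e_ub _ hx2, e_uuu, e_ab _ (hW b w hw), e_bb w hw] at h1
  exact h1

end quad

/-! ### numbers -/

theorem not_om_three_mul {q : ℕ} (hP : Par 3 q) {r : ℕ} (hr5 : 5 < r) (hrd : r ∣ q ^ 2 + q + 1) :
    ¬ Om 3 q (3 * ((q + 1) * r)) := by
  obtain ⟨o1, o2, o3, o4, o5⟩ := three_of hP
  have hq := hP.hq
  have hq1 : 1 ≤ q := by omega
  have hr3 : r ∣ q ^ 3 - 1 := by rw [cube_sub hq1]; exact Dvd.dvd.mul_right hrd _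
  have hc : 1 ≤ q ^ 3 := Nat.one_le_pow _ _ hq1
  have h3 : 3 ∣ 3 * ((q + 1) * r) := Dvd.intro _ rfl
  have od : ∀ a b, ¬ 3 ∣ a → ¬ 3 ∣ b → ¬ 3 ∣ a * b := fun a b ha hb h => ((Nat.prime_three.dvd_mul).1 h).elim ha hb
  rintro (h | h | h | ⟨h, -⟩ | ⟨-, h | h | h⟩)
  · exact o1 (h3.trans h)
  · exact od _ _ o2 o4 (h3.trans h)
  · exact od _ _ o3 o5 (h3.trans h)
  · omega
  · have h1 := Nat.le_of_dvd (by norm_num) h
    nlinarith only [hr5, h1]
  · have h1 := Nat.dvd_of_mul_dvd_mul_left (by norm_num) h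
    have h2 : q + 1 ∣ q ^ 3 - 1 := (Dvd.intro _ rfl).trans h1
    have h4 : q + 1 ∣ q ^ 3 + 1 := by rw [cube_add hq1]; exact Dvd.intro_left _ rfl
    have h5 := Nat.dvd_sub h4 h2
    have h6 : q ^ 3 + 1 - (q ^ 3 - 1) = 2 := by omega
    rw [h6] at h5
    have := Nat.le_of_dvd (by norm_num) h5
    omega
  · have h1 := Nat.dvd_of_mul_dvd_mul_left (by norm_num) h
    have h2 : r ∣ q ^ 3 + 1 := (Dvd.intro_left _ rfl).trans h1
    have h5 := Nat.dvd_sub h2 hr3
    have h6 : q ^ 3 + 1 - (q ^ 3 - 1) = 2 := by omega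
    rw [h6] at h5
    have := Nat.le_of_dvd (by norm_num) h5
    omega

theorem three_cases {q : ℕ} (hP : Par 3 q) : q = 3 ∨ 9 ≤ q := by
  obtain ⟨k, hk, hqk⟩ := hP.hk
  rcases Nat.lt_or_ge k 2 with h | h
  · left
    obtain rfl : k = 1 := by omega
    omega
  · right
    rw [hqk]
    exact (by norm_num : 9 = 3 ^ 2) ▸ Nat.pow_le_pow_right (by norm_num) h

/-! ### the theorem -/

section main

variable {q : ℕ} {E : Type*} [Field E] {σ : E ≃+* E} {L : Type*} [Group L] (c : HexGrp σ L)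
variable {k V : Type*} [Field k] [CharP k 3] [AddCommGroup V] [Module k V] (ρ : L →* (V →ₗ[k] V))

omit [CharP k 3] in
theorem neg_of_conj {z t : L} (h : ∀ v : V, ρ z v = -v) (hc : IsConj z t) (v : V) : ρ t v = -v := by
  obtain ⟨g, rfl⟩ := isConj_iff.1 hc
  rw [rho_mul, rho_mul, h, map_neg, ← rho_mul, mul_inv_cancel, rho_one]

/-- elements of order three commuting with `z` act quadratically on the fixed points of `z` -/
theorem quad_of (hP : Par 3 q)
    (hN : ∀ l : L, ¬ Om 3 q (3 * orderOf l) → ∀ v : V, ∑ i ∈ Finset.range (orderOf l), ρ (l ^ i) v = 0)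
    {z u : L} (hz : z * z = 1) (hz1 : z ≠ 1) (hu : u * u * u = 1) (hu1 : u ≠ 1) (hc : z * u = u * z) {w : V}
    (hw : ρ z w = w) : w + ρ u w + ρ u (ρ u w) = 0 := by
  have h2 : Fact (Nat.Prime 2) := ⟨Nat.prime_two⟩
  have h3 : Fact (Nat.Prime 3) := ⟨Nat.prime_three⟩
  have hzo : orderOf z = 2 := orderOf_eq_prime (by rw [pow_two]; exact hz) hz1
  have huo : orderOf u = 3 := orderOf_eq_prime (by rw [pow_succ, pow_two]; exact hu) hu1
  have hcm : Commute z u := hc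
  have ho : orderOf (z * u) = 6 := by
    rw [hcm.orderOf_mul_eq_mul_orderOf_of_coprime, hzo, huo]
    rw [hzo, huo]
    norm_num
  have h1 := hN (z * u) (by rw [ho]; exact not_om_eighteen hP) w
  rw [ho] at h1
  have h4 : ∀ i, ρ ((z * u) ^ i) w = ρ (u ^ i) w := by
    intro i
    rw [hcm.mul_pow, (hcm.pow_pow i i).eq, rho_mul, rho_pow_fix ρ hw]
  simp_rw [h4] at h1
  have h5 : u ^ 3 = 1 := by rw [← huo, pow_orderOf_eq_one]
  have h6 : u ^ 4 = u := by rw [pow_succ, h5, one_mul]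
  have h7 : u ^ 5 = u ^ 2 := by rw [show 5 = 3 + 2 by norm_num, pow_add, h5, one_mul]
  simp only [Finset.sum_range_succ, Finset.sum_range_zero, zero_add, pow_zero, rho_one, pow_one, h5, h6, h7] at h1
  rw [pow_two, rho_mul] at h1
  apply eq_zero_of_two (k := k)
  rw [← h1]
  abel

/-- the subgroup of the elements acting trivially -/
theorem all_of {F : Type*} [Field F] [CharP F 3] (hP : Par 3 q)
    (hN : ∀ l : L, ¬ Om 3 q (3 * orderOf l) → ∀ v : V, ∑ i ∈ Finset.range (orderOf l), ρ (l ^ i) v = 0)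
    {z : L} (hz : z * z = 1) (hz1 : z ≠ 1) (R : SL2 F →* L) (hR : R (mone F) = z) (hc : ∀ x, z * R x = R x * z)
    (hu : R (up 1) ≠ 1) : (∀ w : V, ρ z w = w → ρ (R (wm 1 one_ne_zero)) w = w) ∧
      (∀ s : F, s ≠ 0 → s ^ 4 ≠ 1 → ∀ x, ∀ w : V, ρ z w = w → ρ (R x) w = w) := by
  have key : ∀ w : V, ρ z w = w → ρ (R (wm 1 one_ne_zero)) w = w := by
    intro w hw
    have h1 := quad_fix (F := F) (ρ.comp R) (w := w) ?_ ?_
    · exact h1
    · intro w hw
      rw [MonoidHom.comp_apply, hR] at hw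
      have hu3 : R (up 1) * R (up 1) * R (up 1) = 1 := by rw [← map_mul, ← map_mul, up_cube, map_one]
      exact quad_of ρ hP hN hz hz1 hu3 hu (hc _) hw
    · rw [MonoidHom.comp_apply, hR, hw]
  refine ⟨key, ?_⟩
  intro s hs hs4 x
  let H : Subgroup (SL2 F) :=
    { carrier := {x | ∀ w : V, ρ z w = w → ρ (R x) w = w}
      one_mem' := fun w _ => by rw [map_one, rho_one]
      mul_mem' := fun {a b} ha hb w hw => by rw [map_mul, rho_mul, hb w hw, ha w hw]
      inv_mem' := fun {a} ha w hw => by rw [map_inv]; exact rho_inv_fix ρ (ha w hw) }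
  have hH : ∀ x, x ∈ H ↔ ∀ w : V, ρ z w = w → ρ (R x) w = w := fun x => Iff.rfl
  have hn : ∀ x ∈ H, ∀ y, y * x * y⁻¹ ∈ H := by
    intro x hx y
    rw [hH] at hx ⊢
    intro w hw
    have h1 : ρ z (ρ (R y)⁻¹ w) = ρ (R y)⁻¹ w := by
      have h2 : z * (R y)⁻¹ = (R y)⁻¹ * z := by
        have := hc y⁻¹
        rwa [map_inv] at this
      rw [← rho_mul, h2, rho_mul, hw]
    have e : R (y * x * y⁻¹) = R y * R x * (R y)⁻¹ := by rw [map_mul, map_mul, map_inv]
    rw [e, rho_mul, rho_mul, hx _ h1, ← rho_mul, mul_inv_cancel, rho_one]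
  exact (hH x).1 (eq_top_of_wm hn ((hH _).2 key) hs hs4 x)

include c in
/-- **characteristic three**: a module for `³D₄(q)` with vanishing norms is zero. -/
theorem own_three [Finite L] (hd : Fd 3 q σ)
    (hN : ∀ l : L, ¬ Om 3 q (3 * orderOf l) → ∀ v : V, ∑ i ∈ Finset.range (orderOf l), ρ (l ^ i) v = 0) (v : V) :
    v = 0 := by
  have hq := hd.one_lt
  have hfin := hd.fin
  have hfinP : Finite ↥(fx σ) := Subtype.finite
  have hchar := hd.char
  have hcharP := hd.char_fx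
  have h2 : (2 : E) ≠ 0 := by
    intro h
    have h3 : (3 : E) = 0 := CharP.cast_eq_zero E 3
    have : (1 : E) = 0 := by linear_combination h3 - h
    exact one_ne_zero this
  by_cases hfix : ∀ v, ρ c.z v = v → v = 0
  · have hm : ∀ v, ρ c.z v = -v := by
      intro v
      have h1 := hfix (v + ρ c.z v) (by rw [map_add, ← rho_mul, c.z_sq, rho_one, add_comm])
      exact (neg_eq_of_add_eq_zero_right h1).symm
    have h1 := neg_of_conj ρ hm c.isConj_z0
    have h3 : (c.z * c.z0) * (c.z * c.z0) = 1 := by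
      calc (c.z * c.z0) * (c.z * c.z0) = c.z * (c.z0 * c.z) * c.z0 := by group
        _ = c.z * (c.z * c.z0) * c.z0 := by rw [c.z0_z]
        _ = (c.z * c.z) * (c.z0 * c.z0) := by group
        _ = 1 := by rw [c.z_sq, c.z0_sq, one_mul]
    have h4 : c.z * c.z0 ≠ 1 := by
      intro h
      have h5 : c.z = c.z0 := by
        rw [mul_eq_one_iff_eq_inv] at h
        rw [h, inv_eq_of_mul_eq_one_right c.z0_sq]
      exact c.z0_ne_z h2 h5.symm
    have h5 := neg_of_conj ρ hm (c.isConj_z h2 h3 h4).symm v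
    rw [rho_mul, h1, hm, neg_neg] at h5
    apply eq_zero_of_two (k := k)
    nth_rewrite 2 [h5]
    exact add_neg_cancel v
  · exfalso
    push Not at hfix
    obtain ⟨w₀, hw₀, hw₁⟩ := hfix
    have hz1 := c.z_ne h2
    obtain ⟨s, hs, hs1⟩ := exists_gen hd
    have hq27 : 26 ≤ q ^ 3 - 1 := by
      have h3 : 3 ^ 3 ≤ q ^ 3 := Nat.pow_le_pow_left (by have := hd.par.hq; omega) 3
      omega
    have hs4 : s ^ 4 ≠ 1 := by
      intro h
      have := Nat.le_of_dvd (by norm_num) (orderOf_dvd_of_pow_eq_one h)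
      omega
    -- the short root group
    have hE := (all_of ρ hd.par hN c.z_sq hz1 c.pb rfl c.z_pb (by
      rw [c.pb_up]
      intro h
      rw [← c.x1_zero] at h
      exact one_ne_zero (c.x1_inj h))).2 s hs hs4
    -- the long root group
    obtain ⟨hP1, hP2⟩ := all_of (F := ↥(fx σ)) ρ hd.par hN c.z_sq hz1 c.p4 c.z_eq_p4.symm c.z_p4 (by
      intro h
      have h1 := c.p4_inj (h.trans (map_one c.p4).symm)
      have h3 := congrArg (fun y => ent y 0 1) h1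
      simp only [up_01, ent_one_01] at h3
      exact one_ne_zero h3)
    obtain ⟨x, hx, hx1⟩ : ∃ x : SL2 ↥(fx σ), orderOf x = q + 1 ∧ ρ (c.p4 x) w₀ = w₀ := by
      rcases three_cases hd.par with h3 | h9
      · refine ⟨wm 1 one_ne_zero, ?_, hP1 w₀ hw₀⟩
        have hp : Fact (Nat.Prime 2) := ⟨Nat.prime_two⟩
        have e4 : q + 1 = 2 ^ (1 + 1) := by rw [h3]; norm_num
        rw [e4]
        apply orderOf_eq_prime_pow
        · rw [pow_one, pow_two, wm_sq]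
          intro h
          have h4 := congrArg (fun y => ent y 0 0) h
          simp only [mone, dg_00, ent_one_00] at h4
          have h5 : (2 : ↥(fx σ)) = 0 := by linear_combination -h4
          exact h2 (congrArg Subtype.val h5)
        · have hw : (wm 1 one_ne_zero : SL2 ↥(fx σ)) ^ 2 = mone _ := by rw [pow_two, wm_sq]
          rw [pow_succ, pow_one, pow_mul, hw, pow_two]
          apply ext_ent <;> simp [mone, ent_mul]
      · obtain ⟨τ, hτ⟩ := exists_cmp ↥(fx σ)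
        rw [hd.card_fx] at hτ
        obtain ⟨u, hu⟩ := IsCyclic.exists_generator (α := (↥(fx σ))ˣ)
        have hu1 : orderOf (u : ↥(fx σ)) = q - 1 := by
          rw [orderOf_units, orderOf_eq_card_of_forall_mem_zpowers hu, Nat.card_units, hd.card_fx]
        refine ⟨cmp τ, hτ, hP2 u u.ne_zero ?_ _ w₀ hw₀⟩
        intro h
        have h3 := orderOf_dvd_of_pow_eq_one h
        rw [hu1] at h3
        have := Nat.le_of_dvd (by norm_num) h3
        omega
    obtain ⟨r, hr, hr5, hrd⟩ := exists_r3 hd.par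
    have hrq : r ∣ q ^ 3 - 1 := by rw [cube_sub (by omega)]; exact Dvd.dvd.mul_right hrd _
    obtain ⟨m, hm⟩ := hrq
    have hm0 : m ≠ 0 := by rintro rfl; omega
    obtain ⟨y, hy⟩ : ∃ y : SL2 E, y = dg s hs ^ m := ⟨_, rfl⟩
    have hyo : orderOf (c.pb y) = r := by
      rw [hy, map_pow, orderOf_pow' _ hm0, orderOf_dg c hd hs hs1, hm, Nat.gcd_mul_left_left,
        Nat.mul_div_cancel _ (Nat.pos_of_ne_zero hm0)]
    have hxo : orderOf (c.p4 x) = q + 1 := by rw [orderOf_injective c.p4 c.p4_inj, hx]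
    have hc : Commute (c.p4 x) (c.pb y) := (c.comm_pb_p4 y x).symm
    have hcop : Nat.Coprime (q + 1) r := (cop1 q).coprime_dvd_right hrd
    have ho : orderOf (c.p4 x * c.pb y) = (q + 1) * r := by
      rw [hc.orderOf_mul_eq_mul_orderOf_of_coprime, hxo, hyo]
      rw [hxo, hyo]
      exact hcop
    have h1 := hN (c.p4 x * c.pb y) (by rw [ho]; exact not_om_three_mul hd.par hr5 hrd) w₀
    have h3 : ρ (c.p4 x * c.pb y) w₀ = w₀ := by rw [rho_mul, hE _ w₀ hw₀, hx1]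
    simp_rw [rho_pow_fix ρ h3] at h1
    rw [Finset.sum_const, Finset.card_range, ho, ← Nat.cast_smul_eq_nsmul k] at h1
    rcases smul_eq_zero.1 h1 with h4 | h4
    · rw [CharP.cast_eq_zero_iff k 3, Nat.prime_three.dvd_mul] at h4
      rcases h4 with h4 | h4
      · exact (three_of hd.par).2.2.2.1 h4
      · have := (Nat.prime_dvd_prime_iff_eq Nat.prime_three hr).1 h4
        omega
    · exact hw₁ h4

end main

end Cfsg.Agent.H135.TD
end

-- part: H135/TD/Twist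
section
set_option autoImplicit false

/-!
# Field automorphisms of `³D₄(q)` and element orders (helper135)

`no_twist`: an extension of `³D₄(q)` by an element of prime order which acts as a field automorphism has an element
whose order is not in `Om`.
-/

namespace Cfsg.Agent.H135.TD

open Cfsg.Agent.SplitTwo Cfsg.Agent.TitsThree.RankTwoZ Cfsg.Agent.Lib.SL2Mat Cfsg.Agent.Cit.HexBase
  Cfsg.Agent.Cit.HexBase.HexGrp

section

variable {p q : ℕ} {E : Type*} [Field E] {σ : E ≃+* E}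

/-- an automorphism is determined by its value at a generator -/
theorem eq_of_gen (hd : Fd p q σ) {s : E} (hs : s ≠ 0) (hs1 : orderOf s = q ^ 3 - 1) {f g : E ≃+* E} (h : f s = g s) :
    f = g := by
  have := hd.fin
  have := Fintype.ofFinite E
  ext x
  rcases eq_or_ne x 0 with rfl | hx
  · rw [map_zero, map_zero]
  · have hcard : Nat.card Eˣ = q ^ 3 - 1 := by rw [Nat.card_units, hd.card]
    have h1 : orderOf (Units.mk0 s hs) = Nat.card Eˣ := by
      rw [hcard, ← hs1, ← orderOf_units, Units.val_mk0]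
    have h2 : Subgroup.zpowers (Units.mk0 s hs) = ⊤ := by
      apply Subgroup.eq_top_of_card_eq
      rw [Nat.card_zpowers, h1]
    have h3 : Units.mk0 x hx ∈ Subgroup.zpowers (Units.mk0 s hs) := h2 ▸ Subgroup.mem_top _
    obtain ⟨k, hk⟩ := Subgroup.mem_zpowers_iff.1 h3
    have h4 : s ^ k = x := by
      have := congrArg Units.val hk
      rwa [Units.val_zpow_eq_zpow_val] at this
    rw [← h4, map_zpow₀, map_zpow₀, h]

/-- an involution acts nontrivially on the small field -/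
theorem exists_move (hd : Fd p q σ) {τ : E ≃+* E} (h2 : ∀ x, τ (τ x) = x) (h1 : τ ≠ 1) : ∃ b, σ b = b ∧ τ b ≠ b := by
  by_contra hcon
  push Not at hcon
  obtain ⟨s, hs, hs1⟩ := exists_gen hd
  have c3 := hd.cube s
  have f1 := hcon (s + σ s + σ (σ s)) (by
    rw [map_add, map_add, c3]
    ring)
  have f2 := hcon (s * σ s + σ s * σ (σ s) + s * σ (σ s)) (by
    rw [map_add, map_add, map_mul, map_mul, map_mul, c3]
    ring)
  have f3 := hcon (s * σ s * σ (σ s)) (by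
    rw [map_mul, map_mul, c3]
    ring)
  have f4 : (τ s - s) * (τ s - σ s) * (τ s - σ (σ s)) = 0 := by
    have f5 : s ^ 3 - (s + σ s + σ (σ s)) * s ^ 2 + (s * σ s + σ s * σ (σ s) + s * σ (σ s)) * s -
        s * σ s * σ (σ s) = 0 := by ring
    have f6 := congrArg τ f5
    rw [map_zero, map_sub, map_add, map_sub, map_pow, map_mul τ _ (s ^ 2), map_pow, map_mul τ _ s, f1, f2, f3] at f6
    linear_combination f6
  have hσ3 : ∀ x, σ (σ (σ x)) = x := hd.cube
  rcases mul_eq_zero.1 f4 with h | h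
  · rcases mul_eq_zero.1 h with h | h
    · exact h1 (eq_of_gen hd hs hs1 (show τ s = s from sub_eq_zero.1 h))
    · have h3 : τ = σ := eq_of_gen hd hs hs1 (sub_eq_zero.1 h)
      subst h3
      apply h1
      ext x
      show τ x = x
      have := hσ3 x
      rwa [h2] at this
  · have h3 : τ = σ.trans σ := eq_of_gen hd hs hs1 (by
      rw [RingEquiv.trans_apply]
      exact sub_eq_zero.1 h)
    apply h1
    ext x
    show τ x = x
    have h4 := h2 x
    rw [h3] at h4 ⊢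
    simp only [RingEquiv.trans_apply] at h4 ⊢
    rw [hσ3] at h4
    rw [h4, h4]

theorem comm_frob (hd : Fd p q σ) (τ : E ≃+* E) (x : E) : σ (τ x) = τ (σ x) := by
  rw [hd.frob, hd.frob, map_pow]

theorem exists_one (hd : Fd 2 q σ) {τ : E ≃+* E} (h2 : ∀ x, τ (τ x) = x) (h1 : τ ≠ 1) :
    ∃ a, σ a = a ∧ a + τ a = 1 := by
  obtain ⟨b, hb, hb1⟩ := exists_move hd h2 h1
  have hchar := hd.char
  have hE2 : (2 : E) = 0 := CharTwo.two_eq_zero
  have hne : b + τ b ≠ 0 := by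
    intro h
    apply hb1
    linear_combination h - b * hE2
  have hf : σ (b + τ b) = b + τ b := by rw [map_add, comm_frob hd, hb]
  have ht : τ (b + τ b) = b + τ b := by rw [map_add, h2, add_comm]
  refine ⟨b / (b + τ b), ?_, ?_⟩
  · rw [map_div₀, hf, hb]
  · rw [map_div₀, ht, ← add_div, div_self hne]

theorem exists_tr [CharP E 3] {τ : E ≃+* E} (h1 : τ ≠ 1) : ∃ a, a + τ a + τ (τ a) ≠ 0 := by
  obtain ⟨b, hb⟩ : ∃ b, τ b ≠ b := by
    by_contra h
    push Not at h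
    exact h1 (RingEquiv.ext h)
  have h3 : (3 : E) = 0 := CharP.cast_eq_zero E 3
  by_cases hb1 : b + τ b + τ (τ b) = 0
  · refine ⟨b ^ 2, ?_⟩
    have h4 : τ (τ b) = -b - τ b := by linear_combination hb1
    rw [map_pow, map_pow, h4]
    have h5 : b ^ 2 + (τ b) ^ 2 + (-b - τ b) ^ 2 = 2 * (τ b - b) ^ 2 := by
      linear_combination (2 * b * τ b) * h3
    rw [h5]
    refine mul_ne_zero ?_ (pow_ne_zero 2 (sub_ne_zero.2 hb))
    intro h6
    have : (1 : E) = 0 := by linear_combination h3 - h6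
    exact one_ne_zero this
  · exact ⟨b, hb1⟩

end

section main

variable {p q : ℕ} {E : Type*} [Field E] {σ : E ≃+* E} {L : Type*} [Group L] (c : HexGrp σ L)

/-- a field automorphism -/
structure Tw {X : Type*} [Group X] (f : L →* X) (ℓ : ℕ) (τ : E ≃+* E) (x : X) : Prop where
  inj : Function.Injective f
  prime : ℓ.Prime
  ne : x ≠ 1
  pow : x ^ ℓ = 1
  tne : τ ≠ 1
  tpow : τ ^ ℓ = 1
  h1 : ∀ a, x * f (c.x1 a) * x⁻¹ = f (c.x1 (τ a))
  h6 : ∀ t, σ t = t → x * f (c.x6 t) * x⁻¹ = f (c.x6 (τ t))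
  hz : x * f c.z * x⁻¹ = f c.z

variable {X : Type*} [Group X] {f : L →* X} {ℓ : ℕ} {τ : E ≃+* E} {x : X}

theorem Tw.comm (T : Tw c f ℓ τ x) : Commute x (f (c.x1 1 * c.x6 1)) := by
  have h1 := T.h1 1
  have h6 := T.h6 1 (map_one σ)
  rw [map_one τ] at h1 h6
  show x * f (c.x1 1 * c.x6 1) = f (c.x1 1 * c.x6 1) * x
  rw [map_mul]
  calc x * (f (c.x1 1) * f (c.x6 1)) = (x * f (c.x1 1) * x⁻¹) * (x * f (c.x6 1) * x⁻¹) * x := by group
    _ = f (c.x1 1) * f (c.x6 1) * x := by rw [h1, h6]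

theorem Tw.order (T : Tw c f ℓ τ x) {n : ℕ} (hn : orderOf (c.x1 1 * c.x6 1) = n) (h : Nat.Coprime ℓ n) :
    orderOf (x * f (c.x1 1 * c.x6 1)) = ℓ * n := by
  have hℓ : Fact ℓ.Prime := ⟨T.prime⟩
  have h1 : orderOf x = ℓ := orderOf_eq_prime T.pow T.ne
  have h2 : orderOf (f (c.x1 1 * c.x6 1)) = n := by rw [orderOf_injective f T.inj, hn]
  rw [T.comm.orderOf_mul_eq_mul_orderOf_of_coprime, h1, h2]
  rwa [h1, h2]

theorem no_twist_two (hd : Fd 2 q σ) (T : Tw c f ℓ τ x) (hom : ∀ y : X, Om 2 q (orderOf y)) : False := by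
  have hchar := hd.char
  have h8 : orderOf (c.x1 1 * c.x6 1) = 8 := by
    have := orderOf_eight c (σ := σ) (s := 0) (b := 0) (t := 0) (e := 0) (map_zero σ) (map_zero σ) (map_zero σ)
      (map_zero σ)
    rwa [ff_zero, mul_one] at this
  rcases T.prime.eq_two_or_odd' with rfl | hodd
  · have hτ : ∀ y, τ (τ y) = y := by
      intro y
      have := DFunLike.congr_fun T.tpow y
      rwa [pow_two] at this
    obtain ⟨a, ha, ha1⟩ := exists_one hd hτ T.tne
    have ha' : σ (τ a) = τ a := by rw [comm_frob hd, ha]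
    obtain ⟨s, b, t, e, hs, hb, ht, he, h⟩ := twist_two c ha ha' ha1
    have hsq : (x * f (c.x1 a * c.x6 a)) ^ 2 = f (c.x1 1 * c.x6 1 * ff c s b t e) := by
      rw [← h, pow_two, map_mul f (c.x1 (τ a) * c.x6 (τ a)), map_mul f (c.x1 (τ a)), ← T.h1, ← T.h6 a ha,
        map_mul f (c.x1 a)]
      have hxx : x⁻¹ = x := by
        rw [inv_eq_iff_mul_eq_one, ← pow_two, T.pow]
      rw [hxx]
      calc x * (f (c.x1 a) * f (c.x6 a)) * (x * (f (c.x1 a) * f (c.x6 a)))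
          = x * f (c.x1 a) * 1 * f (c.x6 a) * x * (f (c.x1 a) * f (c.x6 a)) := by group
        _ = x * f (c.x1 a) * (x * x) * f (c.x6 a) * x * (f (c.x1 a) * f (c.x6 a)) := by rw [← pow_two, T.pow]
        _ = _ := by group
    have ho : orderOf (f (c.x1 1 * c.x6 1 * ff c s b t e)) = 8 := by
      rw [orderOf_injective f T.inj, orderOf_eight c hs hb ht he]
    have hp2 : Fact (Nat.Prime 2) := ⟨Nat.prime_two⟩
    have h16 : orderOf (x * f (c.x1 a * c.x6 a)) = 2 ^ (3 + 1) := by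
      apply orderOf_eq_prime_pow
      · rw [show 2 ^ 3 = 2 * 4 by norm_num, pow_mul, hsq]
        intro h4
        have := Nat.le_of_dvd (by norm_num) (orderOf_dvd_of_pow_eq_one h4)
        omega
      · rw [show 2 ^ (3 + 1) = 2 * 8 by norm_num, pow_mul, hsq, ← ho, pow_orderOf_eq_one]
    have := hom (x * f (c.x1 a * c.x6 a))
    rw [h16] at this
    exact not_om_sixteen hd.par this
  · have ho := T.order c h8 (by
      have : (8 : ℕ) = 2 ^ 3 := by norm_num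
      rw [this]
      exact Nat.Coprime.pow_right 3 hodd.coprime_two_right)
    have h1 := hom (x * f (c.x1 1 * c.x6 1))
    rw [ho] at h1
    have h2 := h1.two_eight hd.par (Dvd.intro_left _ rfl)
    have h3 := Nat.le_of_dvd (by norm_num) h2
    have := T.prime.two_le
    omega

theorem no_twist_three (hd : Fd 3 q σ) (T : Tw c f ℓ τ x) (hom : ∀ y : X, Om 3 q (orderOf y)) : False := by
  have hchar := hd.char
  have h9 : orderOf (c.x1 1 * c.x6 1) = 9 := orderOf_nine c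
  have h2E : (2 : E) ≠ 0 := by
    intro h
    have h3 : (3 : E) = 0 := CharP.cast_eq_zero E 3
    have : (1 : E) = 0 := by linear_combination h3 - h
    exact one_ne_zero this
  by_cases hℓ : ℓ = 3
  · subst hℓ
    obtain ⟨a, ha⟩ := exists_tr (τ := τ) T.tne
    have hτ : τ (τ (τ a)) = a := by
      have := DFunLike.congr_fun T.tpow a
      rwa [pow_succ, pow_two] at this
    obtain ⟨w, hw⟩ : ∃ w, w = a + τ a + τ (τ a) := ⟨_, rfl⟩
    rw [← hw] at ha
    have hcube : (x * f (c.x1 a)) ^ 3 = f (c.x1 w) := by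
      have e1 : x * f (c.x1 a) = f (c.x1 (τ a)) * x := by rw [← T.h1]; group
      have e2 : x * f (c.x1 (τ a)) = f (c.x1 (τ (τ a))) * x := by rw [← T.h1 (τ a)]; group
      have e3 : x * f (c.x1 (τ (τ a))) = f (c.x1 a) * x := by
        have := T.h1 (τ (τ a))
        rw [hτ] at this
        rw [← this]
        group
      have hx3 : x * x * x = 1 := by rw [← T.pow, pow_succ, pow_two]
      calc (x * f (c.x1 a)) ^ 3 = (x * f (c.x1 a)) * (x * f (c.x1 a)) * (x * f (c.x1 a)) := by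
            rw [pow_succ, pow_two]
        _ = f (c.x1 (τ a)) * (x * f (c.x1 (τ a))) * (x * f (c.x1 (τ a))) * x := by
            rw [e1]; group
        _ = f (c.x1 (τ a)) * f (c.x1 (τ (τ a))) * (x * f (c.x1 (τ (τ a)))) * x * x := by
            rw [e2]; group
        _ = f (c.x1 (τ a)) * f (c.x1 (τ (τ a))) * f (c.x1 a) * (x * x * x) := by
            rw [e3]; group
        _ = f (c.x1 w) := by
            rw [hx3, mul_one, ← map_mul, ← map_mul, ← c.x1_add, ← c.x1_add, hw]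
            congr 2
            ring
    have hp3 : Fact (Nat.Prime 3) := ⟨Nat.prime_three⟩
    have hp2 : Fact (Nat.Prime 2) := ⟨Nat.prime_two⟩
    have hord9 : orderOf (x * f (c.x1 a)) = 9 := by
      rw [show 9 = 3 ^ (1 + 1) by norm_num]
      apply orderOf_eq_prime_pow
      · rw [pow_one, hcube]
        intro h
        rw [← map_one f] at h
        have h1 := T.inj h
        rw [← c.x1_zero] at h1
        exact ha (c.x1_inj h1)
      · rw [show 3 ^ (1 + 1) = 3 * 3 by norm_num, pow_mul, hcube, ← map_pow]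
        have : c.x1 w ^ 3 = 1 := by
          have h3 : (3 : E) = 0 := CharP.cast_eq_zero E 3
          rw [pow_succ, pow_two, ← c.x1_add, ← c.x1_add, ← c.x1_zero]
          congr 1
          linear_combination w * h3
        rw [this, map_one]
    have hzo : orderOf (f c.z) = 2 := by
      apply orderOf_eq_prime
      · rw [← map_pow, pow_two, c.z_sq, map_one]
      · intro h
        rw [← map_one f] at h
        exact c.z_ne h2E (T.inj h)
    have hzx : c.z * c.x1 a = c.x1 a * c.z := by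
      rw [← c.pb_up]
      exact c.z_pb _
    have hcomm : Commute (x * f (c.x1 a)) (f c.z) := by
      have hz := T.hz
      have hxz : x * f c.z = f c.z * x := by
        nth_rewrite 2 [← hz]
        group
      show x * f (c.x1 a) * f c.z = f c.z * (x * f (c.x1 a))
      rw [mul_assoc, ← map_mul, ← hzx, map_mul, ← mul_assoc, hxz, mul_assoc]
    have ho : orderOf (x * f (c.x1 a) * f c.z) = 18 := by
      rw [hcomm.orderOf_mul_eq_mul_orderOf_of_coprime, hord9, hzo]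
      rw [hord9, hzo]
      norm_num
    have := hom (x * f (c.x1 a) * f c.z)
    rw [ho] at this
    exact not_om_eighteen hd.par this
  · have ho := T.order c h9 (by
      have : (9 : ℕ) = 3 ^ 2 := by norm_num
      rw [this]
      exact Nat.Coprime.pow_right 2 ((Nat.coprime_primes T.prime Nat.prime_three).2 hℓ))
    have h1 := hom (x * f (c.x1 1 * c.x6 1))
    rw [ho] at h1
    have h2 := h1.three_nine hd.par (Dvd.intro_left _ rfl)
    have h3 := Nat.le_of_dvd (by norm_num) h2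
    have := T.prime.two_le
    omega

theorem no_twist (hd : Fd p q σ) (T : Tw c f ℓ τ x) (hom : ∀ y : X, Om p q (orderOf y)) : False := by
  rcases hd.par.hp with rfl | rfl
  · exact no_twist_two c hd T hom
  · exact no_twist_three c hd T hom

end main

end Cfsg.Agent.H135.TD
end

-- part: H135/TD/AutTwo
section
/-!
# Extensions of `³D₄(q)` with the same element orders (helper135)
-/

set_option autoImplicit false

namespace Cfsg.Agent.H135.TD

open Cfsg.Lie Cfsg.Agent.ChevalleyStructure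
open Cfsg.Agent.ChevalleyStructure.D4Cols (xU)
open Cfsg.Agent.SplitTwo Cfsg.Agent.TitsThree.RankTwoZ Cfsg.Agent.Lib.SL2Mat Cfsg.Agent.Cit.HexBase
  Cfsg.Agent.Cit.HexBase.HexGrp Cfsg.Agent.Cit.HexD4
open Cfsg.Agent.ChevStructure.FieldMap Cfsg.Agent.H69.OutTwD4

section mat

variable {K : Type*} [Field K]

theorem glE_xU (τ : K ≃+* K) (r : ℕ) (t : K) : glEquiv chevD4 τ (xU r t) = xU r (τ t) := by
  apply Units.ext
  exact x_map chevD4 (τ : K →+* K) r t

theorem glE_pb_up {σ τ : K ≃+* K} (h : ∀ x, τ (σ x) = σ (τ x)) (t : K) :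
    glEquiv chevD4 τ (pb0 (σ : K →+* K) (up t)) = pb0 (σ : K →+* K) (up (τ t)) := by
  rw [pb0_up, pb0_up, D4Fixed.X, D4Fixed.X, map_mul, map_mul, glE_xU, glE_xU, glE_xU]
  simp only [RingEquiv.coe_toRingHom, h]

theorem glE_pb_lo {σ τ : K ≃+* K} (h : ∀ x, τ (σ x) = σ (τ x)) (t : K) :
    glEquiv chevD4 τ (pb0 (σ : K →+* K) (lo t)) = pb0 (σ : K →+* K) (lo (τ t)) := by
  rw [pb0_lo, pb0_lo, D4Fixed.Y, D4Fixed.Y, map_mul, map_mul, glE_xU, glE_xU, glE_xU]
  simp only [RingEquiv.coe_toRingHom, h]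

theorem glE_z {σ τ : K ≃+* K} (h : ∀ x, τ (σ x) = σ (τ x)) :
    glEquiv chevD4 τ (pb0 (σ : K →+* K) (mone K)) = pb0 (σ : K →+* K) (mone K) := by
  have h1 : glEquiv chevD4 τ (pb0 (σ : K →+* K) (wm 1 one_ne_zero)) = pb0 (σ : K →+* K) (wm 1 one_ne_zero) := by
    rw [wm_eq', map_mul, map_mul, map_mul, map_mul, glE_pb_up h, glE_pb_lo h, map_neg, map_inv₀, map_one]
  rw [← wm_sq, map_mul, map_mul, h1]

end mat

section tw

variable {K : Type*} [Field K] [Fintype K] {q : ℕ}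

theorem st_x1 (hq : IsPrimePow q) (hK : Fintype.card K = q ^ 3) {σ : K ≃+* K} (hσ : ∀ x, σ x = x ^ q) (τ : K ≃+* K)
    (a : K) : st q τ ((d4 hq hK hσ).x1 a) = (d4 hq hK hσ).x1 (τ a) := by
  have h : ∀ x, τ (σ x) = σ (τ x) := fun x => by rw [hσ, hσ, map_pow]
  rw [← (d4 hq hK hσ).pb_up, ← (d4 hq hK hσ).pb_up]
  apply Subtype.ext
  exact glE_pb_up h a

theorem st_x6 (hq : IsPrimePow q) (hK : Fintype.card K = q ^ 3) {σ : K ≃+* K} (hσ : ∀ x, σ x = x ^ q) (τ : K ≃+* K)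
    {t : K} (ht : σ t = t) : st q τ ((d4 hq hK hσ).x6 t) = (d4 hq hK hσ).x6 (τ t) := by
  have h : ∀ x, τ (σ x) = σ (τ x) := fun x => by rw [hσ, hσ, map_pow]
  have ht' : σ (τ t) = τ t := by rw [← h, ht]
  have e1 := (d4 hq hK hσ).pa_up ⟨t, ht⟩
  have e2 := (d4 hq hK hσ).pa_up ⟨τ t, ht'⟩
  rw [← e1, ← e2]
  apply Subtype.ext
  show glEquiv chevD4 τ (pa0 (fx σ).subtype (up _)) = pa0 (fx σ).subtype (up _)
  have e3 : ∀ u : ↥(fx σ), pa0 (fx σ).subtype (up u) = xU 14 (u : K) := fun u => ou_up' (fx σ).subtype 14 (by decide) u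
  rw [e3, e3, glE_xU]

theorem st_z (hq : IsPrimePow q) (hK : Fintype.card K = q ^ 3) {σ : K ≃+* K} (hσ : ∀ x, σ x = x ^ q) (τ : K ≃+* K) :
    st q τ (d4 hq hK hσ).z = (d4 hq hK hσ).z := by
  have h : ∀ x, τ (σ x) = σ (τ x) := fun x => by rw [hσ, hσ, map_pow]
  apply Subtype.ext
  exact glE_z h

/-- **Extensions.** -/
theorem eq_top_of {p : ℕ} [CharP K p] (hP : Par p q) (hK : Fintype.card K = q ^ 3) {X : Type*} [Group X] [Finite X]
    (S : Subgroup X) [S.Normal] (e : ↥S ≃* ↥(twistedD4 K q)) (hC : Subgroup.centralizer (S : Set X) = ⊥)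
    (hom : ∀ y : X, Om p q (orderOf y)) : S = ⊤ := by
  by_contra hS
  have hp : Fact p.Prime := ⟨hP.prime⟩
  obtain ⟨φ, hφ⟩ := D4Fixed.exists_frob hP.isPrimePow hK
  have hb : Function.Bijective φ := by
    rw [Fintype.bijective_iff_injective_and_card]
    exact ⟨RingHom.injective (φ : K →+* K), rfl⟩
  obtain ⟨σ, hσ⟩ : ∃ σ : K ≃+* K, ∀ x, σ x = x ^ q := ⟨RingEquiv.ofBijective φ hb, hφ⟩
  obtain ⟨ℓ, τ, x, hℓ, hτ, hτℓ, hx, hxℓ, hconj⟩ := AutOne.exists_twist hP.isPrimePow hK p S e hC hS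
  have hd : Fd p q σ := ⟨hP, inferInstance, by rw [Nat.card_eq_fintype_card, hK], hσ, inferInstance⟩
  refine no_twist (d4 hP.isPrimePow hK hσ) (f := S.subtype.comp e.symm.toMonoidHom) (ℓ := ℓ) (τ := τ) (x := x) hd
    ⟨?_, hℓ, hx, hxℓ, hτ, hτℓ, ?_, ?_, ?_⟩ hom
  · exact S.subtype_injective.comp e.symm.injective
  · intro a
    rw [← st_x1]
    exact hconj _
  · intro t ht
    rw [← st_x6 _ _ _ _ ht]
    exact hconj _
  · have h := hconj (d4 hP.isPrimePow hK hσ).z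
    rw [st_z] at h
    exact h

end tw

end Cfsg.Agent.H135.TD
end

private theorem dce_2b8d11205e19 : _root_.True := by
  try have : _root_.True := by simp only [_root_.Cfsg.Agent.H135.TD.mone.eq_1]
  exact _root_.True.intro
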